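import Cfsg.Agent.SylowToolkit.Counting
import Cfsg.Agent.SylowToolkit.Transfer
import Cfsg.Agent.SylowToolkit.CentralInvolution
import Cfsg.Agent.Transfer.ThompsonTransfer
import Cfsg.Agent.ZStar.Theorem
import Cfsg.Agent.Eq.Def_Solvable
import Mathlib

/-!
# Groups of order `7920` and their Sylow 11-subgroups
-/

set_option autoImplicit false
set_option linter.style.haveILetI false

namespace CfsgLib.Card7920

open CfsgLib.SylowToolkit Subgroup MulAction
open scoped Pointwise

universe u

/-- A `p`-subgroup acting on a normal subgroup `K` of order prime to `p` centralizes an element of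
order `q`, if no proper divisor of the order of a Sylow `q`-subgroup is congruent to it mod `p`. -/
theorem dvd_centralizer {G : Type*} [Group G] [Finite G] {p q : ℕ} [hp : Fact p.Prime] [hq : Fact q.Prime]
    (P : Sylow p G) (hP : Nat.card (P : Subgroup G) = p) (K : Subgroup G) [K.Normal]
    (hpK : ¬ p ∣ Nat.card K) (hqK : q ∣ Nat.card K)
    (hcong : ∀ a b, q ^ a ∣ Nat.card K → b ≤ a → q ^ b % p = q ^ a % p → b = a) :
    q ∣ Nat.card (centralizer ((P : Subgroup G) : Set G)) := by
  classical
  obtain ⟨R₀⟩ := (inferInstance : Nonempty (Sylow q K))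
  have hfr := Sylow.normalizer_sup_eq_top R₀
  set R : Subgroup G := (R₀ : Subgroup K).map K.subtype with hR
  have hpN : p ∣ Nat.card (normalizer (R : Set G)) := by
    have h1 : p ∣ Nat.card G := hP ▸ card_subgroup_dvd_card _
    rw [← K.card_mul_index] at h1
    refine ((hp.out.dvd_mul.mp h1).resolve_left hpK).trans ?_
    rw [← relIndex_top_right, ← hfr, relIndex_sup_right]
    exact relIndex_dvd_card _ _
  obtain ⟨⟨d, hdN⟩, hd⟩ := exists_prime_orderOf_dvd_card' (G := normalizer (R : Set G)) p hpN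
  rw [orderOf_mk] at hd
  obtain ⟨P', hP'⟩ := (IsPGroup.of_card (n := 1) (show Nat.card (zpowers d) = p ^ 1 by
    rw [Nat.card_zpowers, hd, pow_one])).exists_le_sylow
  have hP'eq : zpowers d = (P' : Subgroup G) := eq_of_le_of_card_ge hP' (by
    rw [card_sylow_subgroup_congr P' P, hP, Nat.card_zpowers, hd])
  -- fixed points of `d` on `R`
  obtain ⟨a, ha⟩ := IsPGroup.iff_card.mp (R₀.isPGroup'.map K.subtype)
  rw [← hR] at ha
  let act : MulAction (zpowers d) R :=
    { smul := fun k x => ⟨(k : G) * x * (k : G)⁻¹,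
        (mem_normalizer_iff.mp ((zpowers_le.mpr hdN : zpowers d ≤ _) k.2) x).mp x.2⟩
      one_smul := fun x => Subtype.ext (by show ((1 : zpowers d) : G) * x * ((1 : zpowers d) : G)⁻¹ = x; simp)
      mul_smul := fun u v x => Subtype.ext (by
        show ((u * v : zpowers d) : G) * x * ((u * v : zpowers d) : G)⁻¹ = (u : G) * ((v : G) * x * (v : G)⁻¹) * (u : G)⁻¹
        simp [mul_assoc]) }
  letI := act
  have hmod := (IsPGroup.of_card (n := 1) (show Nat.card (zpowers d) = p ^ 1 by
    rw [Nat.card_zpowers, hd, pow_one])).card_modEq_card_fixedPoints R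
  set F : Subgroup G := R ⊓ centralizer ((P' : Subgroup G) : Set G) with hF
  have hfix : Nat.card (fixedPoints (zpowers d) R) = Nat.card F := by
    refine Nat.card_congr
      { toFun := fun x => ⟨(x.1 : G), mem_inf.mpr ⟨x.1.2, ?_⟩⟩
        invFun := fun x => ⟨⟨x.1, (mem_inf.mp x.2).1⟩, fun k => Subtype.ext ?_⟩
        left_inv := fun x => rfl
        right_inv := fun x => rfl }
    · rw [← hP'eq, mem_centralizer_iff]
      intro y hy
      have := congrArg Subtype.val (x.2 ⟨y, hy⟩)
      exact mul_inv_eq_iff_eq_mul.mp this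
    · have h1 := mem_centralizer_iff.mp (mem_inf.mp x.2).2 (k : G) (hP'eq ▸ k.2)
      show (k : G) * x.1 * (k : G)⁻¹ = x.1
      rw [h1, mul_inv_cancel_right]
  obtain ⟨b, hb, hbF⟩ := (Nat.dvd_prime_pow hq.out).mp (ha ▸ card_dvd_of_le (inf_le_left : F ≤ R))
  rw [← hF] at hbF
  rw [hfix, ha, hbF] at hmod
  have hba := hcong a b (ha ▸ card_dvd_of_le (hR ▸ map_subtype_le _)) hb hmod.symm
  have ha0 : a ≠ 0 := by
    intro e
    rw [e, pow_zero] at ha
    have h1 := R₀.dvd_card_of_dvd_card hqK
    rw [hR, card_map_of_injective K.subtype_injective] at ha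
    rw [ha] at h1
    exact hq.out.one_lt.ne' (Nat.dvd_one.mp h1)
  have hdiv : q ∣ Nat.card (centralizer ((P' : Subgroup G) : Set G)) := by
    refine dvd_trans ?_ (card_dvd_of_le (inf_le_right : F ≤ _))
    rw [hbF, hba]
    exact dvd_pow_self q ha0
  obtain ⟨g, hg⟩ := exists_smul_eq G P' P
  have : centralizer ((P : Subgroup G) : Set G) =
      (centralizer ((P' : Subgroup G) : Set G)).map (MulAut.conj g).toMonoidHom := by
    rw [← hg, Sylow.coe_subgroup_smul]
    ext x
    rw [mem_map_equiv, mem_centralizer_iff, mem_centralizer_iff]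
    constructor
    · intro hx y hy
      have h1 := hx (g * y * g⁻¹) ⟨y, hy, rfl⟩
      simp only [MulAut.conj_symm_apply]
      calc y * (g⁻¹ * x * g) = g⁻¹ * (g * y * g⁻¹ * x) * g := by group
        _ = g⁻¹ * x * g * y := by rw [h1]; group
    · rintro hx _ ⟨y, hy, rfl⟩
      have h1 := hx y hy
      simp only [MulAut.conj_symm_apply] at h1
      show g * y * g⁻¹ * x = x * (g * y * g⁻¹)
      calc g * y * g⁻¹ * x = g * (y * (g⁻¹ * x * g)) * g⁻¹ := by group
        _ = x * (g * y * g⁻¹) := by rw [h1]; group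
  rw [this, card_map_of_injective (MulAut.conj g).injective]
  exact hdiv

theorem eleven_facts {M : Type u} [Group M] [Finite M] {j : ℕ} [Fact (Nat.Prime 11)]
    (h : Nat.card M = 495 * 2 ^ j) (hn : Nat.card (Sylow 11 M) = 45) (P : Sylow 11 M) :
    Nat.card (P : Subgroup M) = 11 ∧ Nat.card (normalizer ((P : Subgroup M) : Set M)) = 11 * 2 ^ j := by
  refine ⟨?_, ?_⟩
  · rw [card_sylow_subgroup_eq (k := 1) (m := 45 * 2 ^ j) (by rw [h]; ring)
      (fun hd => by
        rcases (by norm_num : Nat.Prime 11).dvd_mul.mp hd with h' | h'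
        · norm_num at h'
        · have := (Nat.prime_dvd_prime_iff_eq (by norm_num) Nat.prime_two).mp ((by norm_num : Nat.Prime 11).dvd_of_dvd_pow h')
          norm_num at this) P, pow_one]
  · have := card_normalizer_mul P
    rw [hn, h] at this
    linarith

theorem centralizer_dvd {M : Type u} [Group M] [Finite M] {j : ℕ} [Fact (Nat.Prime 11)]
    (h : Nat.card M = 495 * 2 ^ j) (hn : Nat.card (Sylow 11 M) = 45) (P : Sylow 11 M) :
    Nat.card (centralizer ((P : Subgroup M) : Set M)) ∣ 11 * 2 ^ j :=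
  (eleven_facts h hn P).2 ▸ card_dvd_of_le (centralizer_le_normalizer _)

theorem mul_ten_le {M : Type u} [Group M] [Finite M] [Fact (Nat.Prime 11)] {m : ℕ}
    (h : Nat.card M = 11 * m) (hm : ¬ 11 ∣ m) :
    Nat.card (Sylow 11 M) * 10 + 1 ≤ Nat.card M := by
  have h1 := card_orderOf_eq_prime (G := M) (p := 11) h hm
  have h2 := one_add_sum_card_orderOf_le (G := M) {11} (by simp)
  simp only [Finset.sum_singleton] at h2
  omega

/-- Proper nontrivial normal subgroups. -/
theorem no_normal {M : Type u} [Group M] [Finite M] {j : ℕ} (hj : j ≤ 4) (h : Nat.card M = 495 * 2 ^ j)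
    [Fact (Nat.Prime 11)] (hn : Nat.card (Sylow 11 M) = 45)
    (ih : ∀ i < j, ∀ (L : Type u) [Group L] [Finite L], Nat.card L = 495 * 2 ^ i → Nat.card (Sylow 11 L) ≠ 45)
    (K : Subgroup M) [K.Normal] : K = ⊥ ∨ K = ⊤ := by
  by_contra hcon
  push Not at hcon
  obtain ⟨P⟩ := (inferInstance : Nonempty (Sylow 11 M))
  obtain ⟨hP, hN⟩ := eleven_facts h hn P
  have hm : ¬ 11 ∣ 45 * 2 ^ j := by
    interval_cases j <;> norm_num
  by_cases h11 : 11 ∣ Nat.card K
  · -- `K` contains all Sylow 11-subgroups
    obtain ⟨⟨d, hdK⟩, hd⟩ := exists_prime_orderOf_dvd_card' (G := K) 11 h11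
    rw [orderOf_mk] at hd
    have hall : ∀ x : M, orderOf x = 11 → x ∈ K := by
      intro x hx
      obtain ⟨Q, hQ⟩ := (IsPGroup.of_card (n := 1) (show Nat.card (zpowers d) = 11 ^ 1 by
        rw [Nat.card_zpowers, hd, pow_one])).exists_le_sylow
      obtain ⟨R, hR⟩ := (IsPGroup.of_card (n := 1) (show Nat.card (zpowers x) = 11 ^ 1 by
        rw [Nat.card_zpowers, hx, pow_one])).exists_le_sylow
      have hQK : (Q : Subgroup M) ≤ K := by
        rw [← eq_of_le_of_card_ge hQ (by rw [card_sylow_subgroup_congr Q P, hP, Nat.card_zpowers, hd])]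
        exact zpowers_le.mpr hdK
      obtain ⟨g, hg⟩ := exists_smul_eq M Q R
      have hxR := hR (mem_zpowers x)
      rw [← hg, Sylow.coe_subgroup_smul] at hxR
      obtain ⟨y, hy, rfl⟩ := hxR
      exact (inferInstance : K.Normal).conj_mem y (hQK hy) g
    obtain ⟨m, hKm⟩ := h11
    have hKd : Nat.card K ∣ 495 * 2 ^ j := h ▸ card_subgroup_dvd_card K
    have hm' : m ∣ 45 * 2 ^ j := Nat.dvd_of_mul_dvd_mul_left (by norm_num : 0 < 11)
      (by rw [← hKm, show 11 * (45 * 2 ^ j) = 495 * 2 ^ j by ring]; exact hKd)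
    have hm11 : ¬ 11 ∣ m := fun hd' => hm (hd'.trans hm')
    have e1 := card_orderOf_eq_prime (G := M) (p := 11) (m := 45 * 2 ^ j) (by rw [h]; ring) hm
    have e2 := card_orderOf_eq_prime (G := K) (p := 11) hKm hm11
    have e3 : Nat.card {x : K // orderOf x = 11} = Nat.card {x : M // orderOf x = 11} := Nat.card_congr
      { toFun := fun x => ⟨(x.1 : M), by rw [orderOf_coe]; exact x.2⟩
        invFun := fun x => ⟨⟨x.1, hall x.1 x.2⟩, by rw [orderOf_mk]; exact x.2⟩
        left_inv := fun x => rfl
        right_inv := fun x => rfl }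
    rw [e1, e2, hn] at e3
    have hnK : Nat.card (Sylow 11 K) = 45 := by omega
    have h45 : 45 ∣ m := by
      have := card_sylow_dvd (p := 11) (G := K) (k := 1) (m := m) (by rw [pow_one]; exact hKm) hm11
      rwa [hnK] at this
    obtain ⟨i, rfl⟩ := h45
    have hi2 : i ∣ 2 ^ j := Nat.dvd_of_mul_dvd_mul_left (by norm_num : 0 < 45) hm'
    obtain ⟨i', hi', rfl⟩ := (Nat.dvd_prime_pow Nat.prime_two).mp hi2
    have hlt : i' < j := by
      refine lt_of_le_of_ne hi' fun e => hcon.2 (eq_top_of_card_eq K ?_)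
      rw [hKm, h, e]; ring
    exact ih i' hlt K (by rw [hKm]; ring) hnK
  · -- `K` is a 2-group
    have hC := centralizer_dvd h hn P
    have hno : ∀ q : ℕ, q = 3 ∨ q = 5 → ¬ q ∣ Nat.card K := by
      intro q hq hqK
      haveI : Fact q.Prime := ⟨by rcases hq with rfl | rfl <;> norm_num⟩
      have hd := (dvd_centralizer P hP K h11 hqK (fun a b ha hb e => by
        have hd2 : q ^ a ∣ 45 * 2 ^ j := by
          have h1 := ha.trans (h ▸ card_subgroup_dvd_card K)
          rw [show 495 * 2 ^ j = 11 * (45 * 2 ^ j) by ring] at h1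
          refine (Nat.Coprime.dvd_of_dvd_mul_left ?_ h1)
          exact Nat.Coprime.pow_left a (by rcases hq with rfl | rfl <;> norm_num)
        have ha2 : a ≤ 2 := by
          by_contra hgt
          have h1 := (pow_dvd_pow q (show 3 ≤ a by omega)).trans hd2
          interval_cases j <;> rcases hq with rfl | rfl <;> norm_num at h1
        interval_cases a <;> interval_cases b <;> rcases hq with rfl | rfl <;> first | rfl | norm_num at e)).trans hC
      interval_cases j <;> rcases hq with rfl | rfl <;> norm_num at hd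
    have hKd : Nat.card K ∣ 495 * 2 ^ j := h ▸ card_subgroup_dvd_card K
    have hco : Nat.Coprime (Nat.card K) 495 := by
      rw [show 495 = 3 ^ 2 * (5 * 11) by norm_num]
      exact Nat.Coprime.mul_right ((((Nat.Prime.coprime_iff_not_dvd Nat.prime_three).mpr (hno 3 (.inl rfl))).symm).pow_right 2)
        (Nat.Coprime.mul_right ((Nat.Prime.coprime_iff_not_dvd (by norm_num)).mpr (hno 5 (.inr rfl))).symm
          ((Nat.Prime.coprime_iff_not_dvd (by norm_num)).mpr h11).symm)
    obtain ⟨i, hi, hKi⟩ := (Nat.dvd_prime_pow Nat.prime_two).mp (hco.dvd_of_dvd_mul_left hKd)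
    have hi0 : i ≠ 0 := fun e => hcon.1 (card_eq_one.mp (by rw [hKi, e, pow_zero]))
    have hQc : Nat.card (M ⧸ K) = 495 * 2 ^ (j - i) := by
      have h1 := card_eq_card_quotient_mul_card_subgroup K
      rw [h, hKi, ← Nat.sub_add_cancel hi, pow_add, ← mul_assoc] at h1
      exact (Nat.eq_of_mul_eq_mul_right (pow_pos (by norm_num) i) h1).symm
    set f := QuotientGroup.mk' K
    have hf : Function.Surjective f := QuotientGroup.mk'_surjective K
    set P' := P.mapSurjective hf
    have hidx : (normalizer ((P' : Subgroup (M ⧸ K)) : Set (M ⧸ K))).index ∣ 45 := by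
      rw [← hn, P.card_eq_index_normalizer]
      refine dvd_trans (index_dvd_of_le ?_) (index_map_dvd (H := normalizer ((P : Subgroup M) : Set M)) hf)
      rw [Sylow.coe_mapSurjective]
      exact le_normalizer_map f
    replace hidx : Nat.card (Sylow 11 (M ⧸ K)) ∣ 45 := by rw [P'.card_eq_index_normalizer]; exact hidx
    have key : ∀ n ∈ (45 : ℕ).divisors, n % 11 = 1 → n = 1 ∨ n = 45 := by decide
    rcases key _ (Nat.mem_divisors.mpr ⟨hidx, by norm_num⟩) (card_sylow_mod (p := 11) (G := M ⧸ K)) with h1 | h45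
    · -- all elements of order 11 lie in `P K`
      set H : Subgroup M := (P' : Subgroup (M ⧸ K)).comap f
      haveI : (P' : Subgroup (M ⧸ K)).Normal := sylow_normal_of_card_eq_one h1 P'
      have hall : ∀ x : M, orderOf x = 11 → x ∈ H := by
        intro x hx
        have hp : IsPGroup 11 (zpowers (f x)) := by
          rw [← MonoidHom.map_zpowers]
          exact (IsPGroup.of_card (n := 1) (show Nat.card (zpowers x) = 11 ^ 1 by
            rw [Nat.card_zpowers, hx, pow_one])).map f
        obtain ⟨R, hR⟩ := hp.exists_le_sylow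
        haveI : Subsingleton (Sylow 11 (M ⧸ K)) := (Nat.card_eq_one_iff_unique.mp h1).1
        rw [Subsingleton.elim R P'] at hR
        exact hR (mem_zpowers _)
      have hHc : Nat.card H ≤ 11 * 2 ^ j := by
        have h2 : H.index = (P' : Subgroup (M ⧸ K)).index := index_comap_of_surjective _ hf
        have h3 := H.card_mul_index
        have h4 : Nat.card (P' : Subgroup (M ⧸ K)) = 11 := by
          rw [card_sylow_subgroup_eq (k := 1) (m := 45 * 2 ^ (j - i)) (by rw [hQc]; ring) (fun hd => hm
            (hd.trans (Nat.mul_dvd_mul_left 45 (pow_dvd_pow 2 (Nat.sub_le j i))))) P', pow_one]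
        have h5 := (P' : Subgroup (M ⧸ K)).card_mul_index
        rw [hQc, h4] at h5
        rw [h2, h] at h3
        have h6 : (P' : Subgroup (M ⧸ K)).index = 45 * 2 ^ (j - i) := by linarith
        rw [h6, ← Nat.sub_add_cancel hi, pow_add, Nat.sub_add_cancel hi] at h3
        have h7 : (Nat.card H) * (45 * 2 ^ (j - i)) = (11 * 2 ^ i) * (45 * 2 ^ (j - i)) := by rw [h3]; ring
        rw [Nat.eq_of_mul_eq_mul_right (by positivity) h7]
        exact Nat.mul_le_mul_left 11 (Nat.pow_le_pow_right (by norm_num) hi)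
      have e1 := card_orderOf_eq_prime (G := M) (p := 11) (m := 45 * 2 ^ j) (by rw [h]; ring) hm
      rw [hn] at e1
      have := Nat.card_le_card_of_injective (fun x : {x : M // orderOf x = 11} => (⟨x.1, hall x.1 x.2⟩ : H))
        fun a b e => Subtype.ext (congrArg (fun t : H => (t : M)) e)
      have hpw : 2 ^ j ≤ 16 := le_trans (Nat.pow_le_pow_right (by norm_num) hj) (by norm_num)
      omega
    · exact ih (j - i) (by omega) (M ⧸ K) hQc h45

/-- No group of order `495 * 2 ^ j`, `j ≤ 3`, has 45 Sylow 11-subgroups. -/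
theorem no_fortyfive [Fact (Nat.Prime 11)] (j : ℕ) : j ≤ 3 → ∀ (M : Type u) [Group M] [Finite M],
    Nat.card M = 495 * 2 ^ j → Nat.card (Sylow 11 M) ≠ 45 := by
  induction j using Nat.strong_induction_on with
  | _ j ihj =>
  intro hj M _ _ h hn
  classical
  haveI : Nontrivial M := Finite.one_lt_card_iff_nontrivial.mp (by rw [h]; have := Nat.one_le_two_pow (n := j); omega)
  haveI : IsSimpleGroup M := ⟨fun K _ => no_normal (by omega) h hn (fun i hi L _ _ hL => ihj i hi (by omega) L hL) K⟩
  have hc : ¬ IsMulCommutative M := not_isMulCommutative_of_not_prime (by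
    rw [h, show 495 * 2 ^ j = 5 * (99 * 2 ^ j) by ring]
    exact Nat.not_prime_mul (by norm_num) (by have := Nat.one_le_two_pow (n := j); omega))
  obtain ⟨P⟩ := (inferInstance : Nonempty (Sylow 11 M))
  obtain ⟨hP, hN⟩ := eleven_facts h hn P
  have hd11 : 11 ∣ Nat.card M := hP ▸ card_subgroup_dvd_card _
  set N := normalizer ((P : Subgroup M) : Set M) with hNdef
  set C := centralizer ((P : Subgroup M) : Set M) with hCdef
  have hCN : C ≤ N := centralizer_le_normalizer _
  have hnle := not_normalizer_le_centralizer hc hd11 P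
  have hr := relIndex_centralizer_dvd_sub_one P hP
  have hcyc : IsCyclic (P : Subgroup M) := isCyclic_of_prime_card hP
  have hPC : (P : Subgroup M) ≤ C := fun a ha =>
    mem_centralizer_iff.mpr fun b hb => congrArg Subtype.val (hcyc.commGroup.mul_comm ⟨b, hb⟩ ⟨a, ha⟩)
  have hmulC := relIndex_mul_relIndex (⊥ : Subgroup M) C N bot_le hCN
  rw [relIndex_bot_left, relIndex_bot_left, hN] at hmulC
  have hr2 : C.relIndex N = 2 := by
    have h1 : C.relIndex N ∣ 2 ^ j := by
      obtain ⟨k, hk⟩ := card_dvd_of_le hPC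
      rw [hP] at hk
      rw [hk, mul_assoc] at hmulC
      exact ⟨k, by rw [mul_comm]; exact (Nat.eq_of_mul_eq_mul_left (by norm_num) hmulC).symm⟩
    obtain ⟨i, -, hi⟩ := (Nat.dvd_prime_pow Nat.prime_two).mp h1
    rw [hi] at hr
    have hne : C.relIndex N ≠ 1 := fun e => hnle (relIndex_eq_one.mp e)
    rw [hi] at hne ⊢
    have : i ≤ 1 := by
      by_contra hgt
      have := (pow_dvd_pow 2 (show 2 ≤ i by omega)).trans hr
      norm_num at this
    interval_cases i
    · exact absurd (pow_zero 2) hne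
    · norm_num
  rw [hr2] at hmulC
  rcases (show j = 0 ∨ j = 1 ∨ 2 ≤ j by omega) with rfl | rfl | hj2
  · omega
  · exact not_isSimpleGroup_of_two_mul_odd (m := 495) (by rw [h]; norm_num) (by decide) (by norm_num) inferInstance
  obtain ⟨j', rfl⟩ : ∃ j', j = j' + 1 := ⟨j - 1, by omega⟩
  rw [pow_succ] at hmulC hN h
  have hC : Nat.card C = 11 * 2 ^ j' := by omega
  -- a Sylow 2-subgroup inside `N`
  haveI : Fact (Nat.Prime 2) := ⟨Nat.prime_two⟩
  obtain ⟨R⟩ := (inferInstance : Nonempty (Sylow 2 N))
  obtain ⟨T, hT⟩ := (R.isPGroup'.map N.subtype).exists_le_sylow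
  have hT2 : Nat.card (T : Subgroup M) = 2 ^ (j' + 1) :=
    card_sylow_subgroup_eq (k := j' + 1) (m := 495) (by rw [h, pow_succ]; ring) (by norm_num) T
  have hTeq : (R : Subgroup N).map N.subtype = (T : Subgroup M) := eq_of_le_of_card_ge hT (by
    rw [hT2, card_map_of_injective N.subtype_injective,
      card_sylow_subgroup_eq (k := j' + 1) (m := 11) (by rw [hN, pow_succ]; ring) (by norm_num) R])
  have hTN : (T : Subgroup M) ≤ N := hTeq ▸ map_subtype_le _
  set H := (T : Subgroup M) ⊓ C with hH
  have hTC : ¬ (T : Subgroup M) ≤ C := fun hle => by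
    have := card_dvd_of_le hle
    rw [hT2, hC, pow_succ] at this
    have h2 : 2 ∣ 11 := Nat.dvd_of_mul_dvd_mul_left (pow_pos (by norm_num : 0 < 2) j') (by rwa [mul_comm 11] at this)
    norm_num at h2
  have hHi : H.relIndex (T : Subgroup M) = 2 := by
    rw [hH, inf_relIndex_left]
    have h1 := relIndex_le_of_le_right (H := C) hTN (by rw [hr2]; norm_num)
    rw [hr2] at h1
    have h2 : C.relIndex (T : Subgroup M) ≠ 1 := fun e => hTC (relIndex_eq_one.mp e)
    have h3 : C.relIndex (T : Subgroup M) ≠ 0 := index_ne_zero_of_finite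
    omega
  have hf : FaithfulSylow 11 M := toPermHom_sylow_injective hc hd11
  -- involutions in `C` fix exactly one Sylow 11-subgroup
  have huniq : ∀ x ∈ C, orderOf x = 2 → ∀ Q : Sylow 11 M, x • Q = Q → Q = P := by
    intro x hx hx2 Q hQ
    have h1 := fixCount_centralizing_modEq (G := M) hP hx
    have h2 := fixCount_involution_modEq hf (fun g => sign_eq_one hc _ g) hx2
    have hx1 : x ≠ 1 := fun e => by rw [e, orderOf_one] at hx2; norm_num at hx2
    have h3 := fixCount_lt hf hx1
    rw [hn] at h2 h3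
    have key : ∀ n < 45, n % 11 = 1 % 11 → n % 4 = 45 % 4 → n = 1 := by decide
    have hf1 := key _ h3 h1 h2
    have hsub := (Nat.card_eq_one_iff_unique.mp hf1).1
    exact congrArg Subtype.val (hsub.elim (⟨Q, hQ⟩ : fixedBy (Sylow 11 M) x)
      ⟨P, Sylow.smul_eq_iff_mem_normalizer.mpr (hCN hx)⟩)
  have hout : ∀ t ∈ (T : Subgroup M), orderOf t = 2 → t ∈ C := by
    intro t ht ht2
    by_contra htC
    rcases CfsgLib.Transfer.thompsonTransferLemma T H inf_le_left hHi t ht2 ht (fun hm => htC (mem_inf.mp hm).2) with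
      ⟨M', hM', hi, htM⟩ | ⟨g, hg⟩
    · rcases IsSimpleGroup.eq_bot_or_eq_top_of_normal M' hM' with e | e
      · rw [e, index_bot, h] at hi; omega
      · rw [e, index_top] at hi; norm_num at hi
    · have hgC := (mem_inf.mp hg).2
      have ho : orderOf (g * t * g⁻¹) = 2 :=
        (orderOf_injective (MulAut.conj g).toMonoidHom (MulAut.conj g).injective t).trans ht2
      have hgP : g • P = P := huniq _ hgC ho (g • P) (by
        rw [mul_smul, mul_smul, inv_smul_smul, Sylow.smul_eq_iff_mem_normalizer.mpr (hTN ht)])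
      have hgN : g ∈ N := Sylow.smul_eq_iff_mem_normalizer.mp hgP
      refine htC (mem_centralizer_iff.mpr fun y hy => ?_)
      have h1 := mem_centralizer_iff.mp hgC (g * y * g⁻¹) ((mem_normalizer_iff.mp hgN y).mp hy)
      exact mul_left_cancel (a := g) (mul_right_cancel (b := g⁻¹) (by simpa [mul_assoc] using h1))
  -- some involution of `T`
  obtain ⟨⟨e, heT⟩, he2⟩ := exists_prime_orderOf_dvd_card' (G := (T : Subgroup M)) 2
    (by rw [hT2]; exact dvd_pow_self 2 (Nat.succ_ne_zero j'))
  rw [orderOf_mk] at he2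
  have hNT : normalizer ((T : Subgroup M) : Set M) = (T : Subgroup M) := by
    have hle : normalizer ((T : Subgroup M) : Set M) ≤ N := by
      intro n hn'
      have hem : n * e * n⁻¹ ∈ (T : Subgroup M) := (mem_normalizer_iff.mp hn' e).mp heT
      have ho : orderOf (n * e * n⁻¹) = 2 :=
        (orderOf_injective (MulAut.conj n).toMonoidHom (MulAut.conj n).injective e).trans he2
      have := huniq _ (hout _ hem ho) ho (n • P) (by
        rw [mul_smul, mul_smul, inv_smul_smul, Sylow.smul_eq_iff_mem_normalizer.mpr (hTN heT)])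
      exact Sylow.smul_eq_iff_mem_normalizer.mp this
    refine (eq_of_le_of_card_ge le_normalizer ?_).symm
    have hd := card_dvd_of_le hle
    rw [hN, ← pow_succ] at hd
    rw [hT2]
    have hn11 : ¬ 11 ∣ Nat.card (normalizer ((T : Subgroup M) : Set M)) := by
      intro h11
      obtain ⟨⟨d, hdT⟩, hd'⟩ := exists_prime_orderOf_dvd_card' (G := normalizer ((T : Subgroup M) : Set M)) 11 h11
      rw [orderOf_mk] at hd'
      have hdP : d ∈ (P : Subgroup M) := mem_of_smul_eq (IsPGroup.of_card (n := 1) (show Nat.card (zpowers d) = 11 ^ 1 by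
        rw [Nat.card_zpowers, hd', pow_one])) (Sylow.smul_eq_iff_mem_normalizer.mpr (hle hdT))
      have hz : zpowers d = (P : Subgroup M) := eq_of_le_of_card_ge (zpowers_le.mpr hdP)
        (by rw [hP, Nat.card_zpowers, hd'])
      refine hTC fun t ht => ?_
      have h1 : t * d * t⁻¹ * d⁻¹ ∈ (P : Subgroup M) :=
        mul_mem ((mem_normalizer_iff.mp (hTN ht) d).mp hdP) (inv_mem hdP)
      have h2 : t * d * t⁻¹ * d⁻¹ ∈ (T : Subgroup M) := by
        rw [mul_assoc, mul_assoc]
        refine mul_mem ht ?_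
        rw [← mul_assoc]
        exact (mem_normalizer_iff.mp hdT _).mp (inv_mem ht)
      have h3 : t * d * t⁻¹ * d⁻¹ = 1 := by
        have a1 := Subgroup.orderOf_dvd_natCard (s := (P : Subgroup M)) h1
        have a2 := Subgroup.orderOf_dvd_natCard (s := (T : Subgroup M)) h2
        rw [hP] at a1
        rw [hT2] at a2
        exact orderOf_eq_one_iff.mp (Nat.dvd_one.mp
          ((Nat.Coprime.pow_right (j' + 1) (by norm_num : Nat.Coprime 11 2)) ▸ Nat.dvd_gcd a1 a2))
      rw [← commutatorElement_def, commutatorElement_eq_one_iff_commute] at h3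
      rw [hCdef, ← hz, mem_centralizer_iff]
      intro y hy
      obtain ⟨k, rfl⟩ := mem_zpowers_iff.mp hy
      exact (h3.symm.zpow_left k).eq
    exact Nat.le_of_dvd (by positivity)
      (Nat.Coprime.dvd_of_dvd_mul_left ((Nat.Prime.coprime_iff_not_dvd (by norm_num)).mpr hn11).symm hd)
  by_cases hab : ∀ a ∈ (T : Subgroup M), ∀ b ∈ (T : Subgroup M), a * b = b * a
  · exact not_normalizer_le_centralizer hc (hT2 ▸ (dvd_pow_self 2 (Nat.succ_ne_zero j')).trans (dvd_refl _) |>.trans
      (card_subgroup_dvd_card _)) T (by rw [hNT]; exact fun a ha => mem_centralizer_iff.mpr fun b hb => hab b hb a ha)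
  -- `T` non-abelian
  have hj'2 : j' = 2 := by
    rcases (show j' = 1 ∨ j' = 2 by omega) with rfl | rfl
    · exfalso
      haveI := IsPGroup.isMulCommutative_of_card_eq_prime_sq (p := 2) (G := (T : Subgroup M)) (by rw [hT2])
      exact hab fun a ha b hb => congrArg Subtype.val
        (IsMulCommutative.is_comm.comm (⟨a, ha⟩ : (T : Subgroup M)) ⟨b, hb⟩)
    · rfl
  subst hj'2
  have hH4 : Nat.card H = 4 := by
    have h1 := relIndex_mul_relIndex (⊥ : Subgroup M) H (T : Subgroup M) bot_le inf_le_left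
    rw [relIndex_bot_left, relIndex_bot_left, hT2, hHi] at h1
    omega
  by_cases hone : ∀ x ∈ (T : Subgroup M), ∀ y ∈ (T : Subgroup M), orderOf x = 2 → orderOf y = 2 → x = y
  · -- Brauer-Suzuki
    have hz := CfsgLib.ZStar.inZStar_of_atMostOneInvolution T
      (fun x y hx hy => Subtype.ext (hone x x.2 y y.2 (by rw [orderOf_coe]; exact hx) (by rw [orderOf_coe]; exact hy))) he2
    have hcore : Cfsg.pPrimeCore 2 M = ⊥ := by
      refine (IsSimpleGroup.eq_bot_or_eq_top_of_normal (Cfsg.pPrimeCore 2 M) inferInstance).resolve_right fun e => ?_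
      exact CfsgLib.ZStar.not_mem_pPrimeCore_of_orderOf_two he2 (e ▸ mem_top _)
    refine centralizer_ne_top hc (t := e) (fun e' => by rw [e', orderOf_one] at he2; norm_num at he2) ?_
    rw [eq_top_iff]
    intro g _
    have hg := hz g
    rw [hcore, mem_bot, mul_inv_eq_one, mul_inv_eq_iff_eq_mul] at hg
    exact mem_centralizer_singleton_iff.mpr hg
  push Not at hone
  obtain ⟨x, hxT, y, hyT, hx2, hy2, hxy⟩ := hone
  have hxH : x ∈ H := mem_inf.mpr ⟨hxT, hout x hxT hx2⟩
  have hyH : y ∈ H := mem_inf.mpr ⟨hyT, hout y hyT hy2⟩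
  haveI := IsPGroup.isMulCommutative_of_card_eq_prime_sq (p := 2) (G := H) (by rw [hH4]; norm_num)
  have hHcomm : ∀ a ∈ H, ∀ b ∈ H, a * b = b * a := fun a ha b hb =>
    congrArg Subtype.val (IsMulCommutative.is_comm.comm (⟨a, ha⟩ : H) ⟨b, hb⟩)
  have hxx : x * x = 1 := by rw [← sq, ← hx2, pow_orderOf_eq_one]
  have hyy : y * y = 1 := by rw [← sq, ← hy2, pow_orderOf_eq_one]
  have hx1 : x ≠ 1 := fun e => by rw [e, orderOf_one] at hx2; norm_num at hx2
  have hy1 : y ≠ 1 := fun e => by rw [e, orderOf_one] at hy2; norm_num at hy2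
  have hxy1 : x * y ≠ 1 := fun e => hxy (by rw [← inv_eq_of_mul_eq_one_right hxx]; exact inv_eq_of_mul_eq_one_right e)
  have hHfour : ∀ w ∈ H, w = 1 ∨ w = x ∨ w = y ∨ w = x * y := by
    have hsub : ({1, x, y, x * y} : Set M) ⊆ H := by
      rintro w (rfl | rfl | rfl | rfl)
      exacts [one_mem _, hxH, hyH, mul_mem hxH hyH]
    have hcard : ({1, x, y, x * y} : Set M).ncard = 4 := by
      rw [Set.ncard_insert_of_notMem, Set.ncard_insert_of_notMem, Set.ncard_pair]
      · exact fun e => hx1 (mul_eq_right.mp e.symm)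
      · simp only [Set.mem_insert_iff, Set.mem_singleton_iff, not_or]
        exact ⟨hxy, fun e => hy1 (mul_eq_left.mp e.symm)⟩
      · simp only [Set.mem_insert_iff, Set.mem_singleton_iff, not_or]
        exact ⟨fun e => hx1 e.symm, fun e => hy1 e.symm, fun e => hxy1 e.symm⟩
    have := Set.eq_of_subset_of_ncard_le hsub (by rw [hcard, ← Nat.card_coe_set_eq]; exact hH4.le)
    intro w hw
    have hw' : w ∈ ({1, x, y, x * y} : Set M) := by rw [this]; exact hw
    simpa using hw'
  obtain ⟨a, haT, haH⟩ : ∃ a ∈ (T : Subgroup M), a ∉ H := by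
    by_contra hcon
    push Not at hcon
    exact absurd (relIndex_eq_one.mpr hcon) (by rw [hHi]; norm_num)
  have ha2 : a * a ∈ H := by
    have := (mul_self_mem_of_index_two (H := H.subgroupOf (T : Subgroup M)) hHi ⟨a, haT⟩)
    exact this
  have hnorm : ∀ w ∈ H, a * w * a⁻¹ ∈ H := fun w hw =>
    (mem_normalizer_iff.mp ((normal_subgroupOf_iff_le_normalizer inf_le_left).mp (normal_of_index_eq_two hHi) haT) w).mp hw
  have hne : ∀ w ∈ H, (a * w) * (a * w) = 1 → False := fun w hw e => by
    have ho : orderOf (a * w) = 2 := orderOf_eq_prime (by rw [sq]; exact e) (fun e1 => haH (by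
      rw [eq_inv_of_mul_eq_one_left e1]; exact inv_mem hw))
    exact haH ((mul_mem_cancel_right hw).mp (mem_inf.mpr ⟨mul_mem haT (mem_inf.mp hw).1, hout _ (mul_mem haT (mem_inf.mp hw).1) ho⟩))
  apply hab
  -- `a` commutes with `H`
  have hacomm : ∀ w ∈ H, a * w = w * a := by
    intro w hw
    by_contra hne'
    have hz1 : a * a ≠ 1 := fun e => hne 1 (one_mem _) (by simpa using e)
    have hww : w * w = 1 := by
      rcases hHfour w hw with rfl | rfl | rfl | rfl
      · simp
      · exact hxx
      · exact hyy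
      · rw [mul_assoc, ← mul_assoc y, hHcomm y hyH x hxH, mul_assoc, hyy, mul_one, hxx]
    set z := a * a
    set w' := a * w * a⁻¹ with hw'
    have hw'H := hnorm w hw
    -- `w' = z * w`
    have hw'w : w' = z * w := by
      have hzc : a * z * a⁻¹ = z := by simp [z, mul_assoc]
      have n1 : w ≠ 1 := fun e => hne' (by rw [e, mul_one, one_mul])
      have n2 : w ≠ z := fun e => hne' (by rw [e]; simp [z, mul_assoc])
      have n3 : w' ≠ 1 := fun e => n1 (conj_eq_one_iff.mp e)
      have n4 : w' ≠ w := fun e => hne' (mul_inv_eq_iff_eq_mul.mp e)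
      have n5 : w' ≠ z := fun e => n2 ((MulAut.conj a).injective (show a * w * a⁻¹ = a * z * a⁻¹ by rw [hzc]; exact e))
      have n6 : z * w ≠ 1 := fun e => n2 (by
        rw [← inv_eq_of_mul_eq_one_right hww]; exact (eq_inv_of_mul_eq_one_left e).symm)
      have n7 : z * w ≠ w := fun e => hz1 (mul_eq_right.mp e)
      have n8 : z * w ≠ z := fun e => n1 (mul_eq_left.mp e)
      by_contra n9
      have hsub : ({1, w, z, z * w, w'} : Finset M) ⊆ (Finset.image id ({1, x, y, x * y} : Finset M)) := by
        intro u hu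
        have huH : u ∈ H := by
          simp only [Finset.mem_insert, Finset.mem_singleton] at hu
          rcases hu with rfl | rfl | rfl | rfl | rfl
          exacts [one_mem _, hw, ha2, mul_mem ha2 hw, hw'H]
        simpa using hHfour u huH
      have := (Finset.card_le_card hsub).trans (Finset.card_image_le)
      have h4 := Finset.card_le_four (a := (1 : M)) (b := x) (c := y) (d := x * y)
      rw [Finset.card_insert_of_notMem, Finset.card_insert_of_notMem, Finset.card_insert_of_notMem,
        Finset.card_pair] at this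
      · omega
      · exact fun e => n9 e.symm
      · simp only [Finset.mem_insert, Finset.mem_singleton, not_or]
        exact ⟨n8.symm, n5.symm⟩
      · simp only [Finset.mem_insert, Finset.mem_singleton, not_or]
        exact ⟨n2, n7.symm, n4.symm⟩
      · simp only [Finset.mem_insert, Finset.mem_singleton, not_or]
        exact ⟨n1.symm, hz1.symm, n6.symm, n3.symm⟩
    refine hne w hw ?_
    calc a * w * (a * w) = w' * (a * a) * w := by rw [hw']; group
      _ = (z * w) * z * w := by rw [hw'w]
      _ = z * z * (w * w) := by rw [mul_assoc z w z, hHcomm w hw z ha2]; group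
      _ = 1 := by
        rw [hww, mul_one]
        rcases hHfour z ha2 with e | e | e | e <;> rw [e]
        · simp
        · exact hxx
        · exact hyy
        · rw [mul_assoc, ← mul_assoc y, hHcomm y hyH x hxH, mul_assoc, hyy, mul_one, hxx]
  intro u hu v hv
  have hsplit : ∀ u ∈ (T : Subgroup M), u ∈ H ∨ ∃ w ∈ H, u = a * w := by
    intro u hu
    by_cases huH : u ∈ H
    · exact .inl huH
    · refine .inr ⟨a⁻¹ * u, ?_, by rw [mul_inv_cancel_left]⟩
      have := (mul_mem_iff_of_index_two (H := H.subgroupOf (T : Subgroup M)) hHi (a := (⟨a, haT⟩ : (T : Subgroup M))⁻¹) (b := ⟨u, hu⟩))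
      exact this.mpr ⟨fun h1 => absurd ((inv_mem_iff).mp h1) haH, fun h1 => absurd h1 huH⟩
  rcases hsplit u hu with h1 | ⟨w, hw, rfl⟩ <;> rcases hsplit v hv with h2 | ⟨w', hw', rfl⟩
  · exact hHcomm u h1 v h2
  · rw [← mul_assoc, ← hacomm u h1, mul_assoc, hHcomm u h1 w' hw', ← mul_assoc]
  · rw [mul_assoc, hHcomm w hw v h2, ← mul_assoc, hacomm v h2, mul_assoc]
  · calc a * w * (a * w') = a * a * (w * w') := by rw [mul_assoc, ← mul_assoc w, ← hacomm w hw]; group
      _ = a * a * (w' * w) := by rw [hHcomm w hw w' hw']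
      _ = a * w' * (a * w) := by rw [mul_assoc a w', ← mul_assoc w', ← hacomm w' hw']; group

end CfsgLib.Card7920
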