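import Cfsg.Agent.Sieve.PrimeLocal
import Cfsg.Agent.PGroup.Normal
import Mathlib

/-!
# Involutions when a Sylow 2-subgroup of a simple group has order 16
-/

set_option autoImplicit false
set_option linter.style.haveILetI false

namespace CfsgLib.Sieve.PrimeLocal

open CfsgLib.SylowToolkit Subgroup
open scoped commutatorElement

/-- In a simple group with Sylow 2-subgroups of order 16 every involution centralizes a subgroup of
order 8. -/
theorem eight_dvd_centralizer_of_sixteen {G : Type*} [Group G] [Finite G] [IsSimpleGroup G] (hc : ¬ IsMulCommutative G)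
    (P : Sylow 2 G) (h16 : Nat.card (P : Subgroup G) = 16) {t : G} (ht : orderOf t = 2) :
    8 ∣ Nat.card (centralizer ({t} : Set G)) := by
  classical
  haveI : Fact (Nat.Prime 2) := ⟨Nat.prime_two⟩
  obtain ⟨S, hS⟩ := (IsPGroup.of_card (n := 1) (show Nat.card (zpowers t) = 2 ^ 1 by
    rw [Nat.card_zpowers, ht, pow_one])).exists_le_sylow
  have hS16 : Nat.card (S : Subgroup G) = 16 := (card_sylow_subgroup_congr S P).trans h16
  have htS : t ∈ (S : Subgroup G) := hS (mem_zpowers t)
  by_contra hcon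
  -- every conjugate of `t` in `S` has centralizer of order at most 4 in `S`
  have hsmall : ∀ u : G, IsConj t u → Nat.card ((S : Subgroup G) ⊓ centralizer ({u} : Set G) : Subgroup G) ≤ 4 := by
    intro u hu
    obtain ⟨g, rfl⟩ := isConj_iff.mp hu
    have hd : Nat.card ((S : Subgroup G) ⊓ centralizer ({g * t * g⁻¹} : Set G) : Subgroup G) ∣ 16 :=
      hS16 ▸ card_dvd_of_le inf_le_left
    have key : ∀ i ∈ (16 : ℕ).divisors, i ≤ 4 ∨ 8 ∣ i := by decide
    refine (key _ (Nat.mem_divisors.mpr ⟨hd, by norm_num⟩)).resolve_right fun h8 => hcon ?_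
    have hinj : Function.Injective (MulAut.conj g).toMonoidHom := (MulAut.conj g).injective
    have hmap : (centralizer ({t} : Set G)).map (MulAut.conj g).toMonoidHom = centralizer ({g * t * g⁻¹} : Set G) := by
      ext x
      rw [mem_map_equiv, mem_centralizer_singleton_iff, mem_centralizer_singleton_iff, MulAut.conj_symm_apply]
      constructor
      · intro h
        calc x * (g * t * g⁻¹) = g * (g⁻¹ * x * g * t) * g⁻¹ := by group
          _ = g * t * g⁻¹ * x := by rw [h]; group
      · intro h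
        calc g⁻¹ * x * g * t = g⁻¹ * (x * (g * t * g⁻¹)) * g := by group
          _ = t * (g⁻¹ * x * g) := by rw [h]; group
    exact h8.trans ((card_dvd_of_le inf_le_right).trans (by rw [← hmap, card_map_of_injective hinj]))
  -- the abelianization of `S` has order 4 and the class of `t` fills a coset
  set S₀ := (S : Subgroup G) with hS₀
  set D := commutator S₀ with hD
  have hDne : D ≠ ⊥ := by
    intro hD0
    have hall : ∀ s ∈ S₀, s * t = t * s := by
      intro s hs
      have hmem : ⁅(⟨s, hs⟩ : S₀), (⟨t, htS⟩ : S₀)⁆ ∈ D :=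
        Subgroup.commutator_mem_commutator (mem_top _) (mem_top _)
      rw [hD0, mem_bot, commutatorElement_eq_one_iff_mul_comm] at hmem
      exact congrArg Subtype.val hmem
    have h1 := hsmall t (IsConj.refl t)
    rw [show S₀ ⊓ centralizer ({t} : Set G) = S₀ from
      inf_eq_left.mpr fun s hs => mem_centralizer_singleton_iff.mpr (hall s hs), hS16] at h1
    omega
  -- a normal subgroup of order 4 contains the commutator subgroup
  have hD4 : Nat.card D ≤ 4 := by
    haveI : Nontrivial S₀ := by rw [← Finite.one_lt_card_iff_nontrivial, hS16]; norm_num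
    haveI := S.isPGroup'.center_nontrivial
    obtain ⟨⟨z₀, hz₀⟩, hz₀o⟩ := exists_prime_orderOf_dvd_card' (G := center S₀) 2
      ((S.isPGroup'.to_subgroup (center S₀)).card_eq_or_dvd.resolve_left (Finite.one_lt_card.ne'))
    rw [orderOf_mk] at hz₀o
    set W := zpowers z₀ with hW
    haveI : W.Normal := ⟨fun w hw g => by
      have hwc : w ∈ center S₀ := (zpowers_le.mpr hz₀ : W ≤ center S₀) hw
      rw [mem_center_iff.mp hwc g, mul_inv_cancel_right]; exact hw⟩
    have hW2 : Nat.card W = 2 := by rw [hW, Nat.card_zpowers, hz₀o]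
    have hQ8 : Nat.card (S₀ ⧸ W) = 8 := by
      have := W.card_eq_card_quotient_mul_card_subgroup
      rw [hS16, hW2] at this
      omega
    haveI : Nontrivial (S₀ ⧸ W) := by rw [← Finite.one_lt_card_iff_nontrivial, hQ8]; norm_num
    haveI := (S.isPGroup'.to_quotient W).center_nontrivial
    obtain ⟨⟨q, hq⟩, hqo⟩ := exists_prime_orderOf_dvd_card' (G := center (S₀ ⧸ W)) 2
      (((S.isPGroup'.to_quotient W).to_subgroup (center (S₀ ⧸ W))).card_eq_or_dvd.resolve_left (Finite.one_lt_card.ne'))
    rw [orderOf_mk] at hqo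
    haveI : (zpowers q).Normal := ⟨fun w hw g => by
      have hwc : w ∈ center (S₀ ⧸ W) := (zpowers_le.mpr hq : zpowers q ≤ center (S₀ ⧸ W)) hw
      rw [mem_center_iff.mp hwc g, mul_inv_cancel_right]; exact hw⟩
    set K := (zpowers q).comap (QuotientGroup.mk' W) with hK
    have hKi : K.index = 4 := by
      rw [hK, index_comap_of_surjective _ (QuotientGroup.mk'_surjective W)]
      have := (zpowers q).card_mul_index
      rw [hQ8, Nat.card_zpowers, hqo] at this
      omega
    haveI : K.Normal := inferInstance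
    have hle : D ≤ K := by
      rw [hD, _root_.commutator_def, commutator_le]
      intro x _ y _
      rw [← QuotientGroup.eq_one_iff, ← QuotientGroup.mk'_apply, map_commutatorElement, commutatorElement_eq_one_iff_mul_comm]
      exact (IsPGroup.isMulCommutative_of_card_eq_prime_sq (p := 2) (G := S₀ ⧸ K) (by
        rw [show Nat.card (S₀ ⧸ K) = 4 from hKi]; norm_num)).is_comm.comm _ _
    have hK4 : Nat.card K = 4 := by
      have := K.card_mul_index
      rw [hKi, hS16] at this
      omega
    exact hK4 ▸ card_le_of_le hle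
  haveI : D.Normal := inferInstance
  -- conjugates of `u` in `S` fill `u D`
  have hcos : ∀ u : S₀, IsConj t (u : G) → 4 ≤ Nat.card D ∧
      ∀ w : S₀, u⁻¹ * w ∈ D → ∃ s : S₀, s * u * s⁻¹ = w := by
    intro u hu
    haveI : Finite (ConjAct S₀) := inferInstanceAs (Finite S₀)
    let C := MulAction.orbit (ConjAct S₀) u
    have hsub : ∀ w : S₀, w ∈ C → u⁻¹ * w ∈ D := by
      rintro _ ⟨s, rfl⟩
      show u⁻¹ * (ConjAct.ofConjAct s * u * (ConjAct.ofConjAct s)⁻¹) ∈ D
      have hmem : ⁅u⁻¹, ConjAct.ofConjAct s⁆ ∈ D := Subgroup.commutator_mem_commutator (mem_top _) (mem_top _)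
      rw [commutatorElement_def, inv_inv] at hmem
      simpa [mul_assoc] using hmem
    have hC4 : 4 ≤ Nat.card C := by
      have h1 : Nat.card C * Nat.card (MulAction.stabilizer (ConjAct S₀) u) = 16 := by
        rw [Nat.card_congr (MulAction.orbitEquivQuotientStabilizer (ConjAct S₀) u), ← Subgroup.index,
          Subgroup.index_mul_card]
        exact hS16
      have h2 : Nat.card (MulAction.stabilizer (ConjAct S₀) u) ≤ 4 := by
        refine le_trans (le_of_eq (Nat.card_congr ?_)) (hsmall _ hu)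
        exact
          { toFun := fun s => ⟨((ConjAct.ofConjAct (s : ConjAct S₀) : S₀) : G), mem_inf.mpr
              ⟨(ConjAct.ofConjAct (s : ConjAct S₀)).2, mem_centralizer_singleton_iff.mpr (by
                have h := congrArg Subtype.val (MulAction.mem_stabilizer_iff.mp s.2)
                exact mul_inv_eq_iff_eq_mul.mp h)⟩⟩
            invFun := fun s => ⟨ConjAct.toConjAct ⟨s.1, (mem_inf.mp s.2).1⟩, MulAction.mem_stabilizer_iff.mpr
              (Subtype.ext (mul_inv_eq_iff_eq_mul.mpr (mem_centralizer_singleton_iff.mp (mem_inf.mp s.2).2)))⟩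
            left_inv := fun s => rfl
            right_inv := fun s => rfl }
      by_contra hlt
      nlinarith [Nat.card_pos (α := MulAction.stabilizer (ConjAct S₀) u)]
    let F : C → D := fun x => ⟨u⁻¹ * x, hsub x x.2⟩
    have hF : Function.Injective F := fun a b hab => Subtype.ext (mul_left_cancel (congrArg Subtype.val hab))
    refine ⟨hC4.trans (Nat.card_le_card_of_injective F hF), fun w hw => ?_⟩
    obtain ⟨⟨x, s, hs⟩, hx⟩ := (hF.bijective_of_nat_card_le (le_trans hD4 hC4)).2 ⟨u⁻¹ * w, hw⟩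
    have hxw : x = w := mul_left_cancel (congrArg Subtype.val hx)
    exact ⟨ConjAct.ofConjAct s, hxw ▸ hs⟩
  have hclass : ∀ u : S₀, IsConj t (u : G) → ∀ w : S₀, u⁻¹ * w ∈ D → IsConj t (w : G) := by
    intro u hu w hw
    obtain ⟨s, hs⟩ := (hcos u hu).2 w hw
    exact hu.trans (isConj_iff.mpr ⟨(s : G), congrArg Subtype.val hs⟩)
  -- an element of `Z(S)` in `D`
  obtain ⟨z, hzD, hzc, hz2⟩ : ∃ z : S₀, z ∈ D ∧ z ∈ center S₀ ∧ orderOf z = 2 := by
    have hne : D ⊓ center S₀ ≠ ⊥ := CfsgLib.PGroup.inf_center_ne_bot S.isPGroup' D hDne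
    haveI := (nontrivial_iff_ne_bot _).mpr hne
    obtain ⟨⟨z, hz⟩, hzo⟩ := exists_prime_orderOf_dvd_card' (G := (D ⊓ center S₀ : Subgroup S₀)) 2
      ((S.isPGroup'.to_subgroup (D ⊓ center S₀)).card_eq_or_dvd.resolve_left (Finite.one_lt_card.ne'))
    rw [orderOf_mk] at hzo
    exact ⟨z, (mem_inf.mp hz).1, (mem_inf.mp hz).2, hzo⟩
  have hz1 : z ≠ 1 := fun e => by rw [e, orderOf_one] at hz2; norm_num at hz2
  have hinv : ∀ w : S₀, IsConj t (w : G) → w * w = 1 := by
    intro w hw
    obtain ⟨g, hg⟩ := isConj_iff.mp hw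
    refine Subtype.ext ?_
    show (w : G) * w = 1
    rw [← hg, show g * t * g⁻¹ * (g * t * g⁻¹) = g * (t * t) * g⁻¹ by group, ← pow_two, ← ht, pow_orderOf_eq_one]
    group
  have hnotD : ∀ w : S₀, IsConj t (w : G) → w ∉ D := fun w hw hwD => by
    have h1 := hclass w hw 1 (by rw [mul_one]; exact inv_mem hwD)
    have : t = 1 := by
      obtain ⟨g, hg⟩ := isConj_iff.mp h1
      exact conj_eq_one_iff.mp hg
    rw [this, orderOf_one] at ht
    norm_num at ht
  -- every maximal subgroup containing `D` contains a conjugate of `t`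
  have hmax : ∀ M : Subgroup S₀, M.index = 2 → ∃ w : S₀, w ∈ M ∧ IsConj t (w : G) := by
    intro M hM
    have hle : M.map S₀.subtype ≤ S₀ := map_subtype_le M
    have hi : (M.map S₀.subtype).relIndex S₀ = 2 := by
      rw [relIndex, ← hM]
      congr 1
      exact comap_map_eq_self_of_injective S₀.subtype_injective M
    by_cases htM : t ∈ M.map S₀.subtype
    · obtain ⟨w, hw, hwt⟩ := htM
      exact ⟨w, hw, hwt ▸ IsConj.refl t⟩
    rcases CfsgLib.Transfer.thompsonTransferLemma S (M.map S₀.subtype) hle hi t ht htS htM with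
      ⟨K, hK, hKi, -⟩ | ⟨g, hg⟩
    · exfalso
      rcases IsSimpleGroup.eq_bot_or_eq_top_of_normal K hK with rfl | rfl
      · rw [index_bot] at hKi
        have := card_subgroup_dvd_card S₀
        rw [hS16, hKi] at this
        norm_num at this
      · rw [index_top] at hKi; norm_num at hKi
    · obtain ⟨w, hw, hwt⟩ := hg
      exact ⟨w, hw, isConj_iff.mpr ⟨g, hwt.symm⟩⟩
  haveI : D.Normal := inferInstance
  have hQ : ∀ a : S₀, IsConj t (a : G) → ∀ b : S₀, IsConj t (b : G) → IsConj t ((a * b : S₀) : G) → b ∈ zpowers a ⊔ D := by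
    intro a ha b hb hab
    -- `a` and `b` commute
    have h1 := hinv a ha
    have h2 := hinv b hb
    have h3 := hinv _ hab
    have hcomm : a * b = b * a := by
      calc a * b = (a * b)⁻¹ := (inv_eq_of_mul_eq_one_right h3).symm
        _ = b * a := by rw [mul_inv_rev, inv_eq_of_mul_eq_one_right h1, inv_eq_of_mul_eq_one_right h2]
    -- the centralizer of `a` in `S` is `{1, z, a, a z}`
    let F : Finset S₀ := {1, z, a, a * z}
    have hF : ∀ w ∈ F, w ∈ zpowers a ⊔ D ∧ (w : G) * (a : G) = (a : G) * w := by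
      intro w hw
      simp only [F, Finset.mem_insert, Finset.mem_singleton] at hw
      have hza : z * a = a * z := (mem_center_iff.mp hzc a).symm
      rcases hw with e | e | e | e <;> rw [e]
      · exact ⟨one_mem _, by simp⟩
      · exact ⟨mem_sup_right hzD, congrArg Subtype.val hza⟩
      · exact ⟨mem_sup_left (mem_zpowers a), rfl⟩
      · exact ⟨mul_mem_sup (mem_zpowers a) hzD, congrArg Subtype.val
          (show a * z * a = a * (a * z) by rw [mul_assoc, hza])⟩
    have hFcard : F.card = 4 := by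
      have ha1 : a ≠ 1 := fun e => hnotD a ha (e ▸ one_mem D)
      have haz : a ≠ z := fun e => hnotD a ha (e ▸ hzD)
      have haz1 : a * z ≠ 1 := fun e => hnotD a ha ((eq_inv_of_mul_eq_one_left e).symm ▸ inv_mem hzD)
      simp only [F]
      rw [Finset.card_insert_of_notMem, Finset.card_insert_of_notMem, Finset.card_pair]
      · exact fun e => hz1 (mul_left_cancel (e.symm.trans (mul_one a).symm))
      · simp only [Finset.mem_insert, Finset.mem_singleton, not_or]
        exact ⟨fun e => haz e.symm, fun e => ha1 (mul_right_cancel (e.symm.trans (one_mul z).symm))⟩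
      · simp only [Finset.mem_insert, Finset.mem_singleton, not_or]
        exact ⟨fun e => hz1 e.symm, fun e => ha1 e.symm, fun e => haz1 e.symm⟩
    by_contra hbn
    have hb' : b ∉ F := fun hb' => hbn (hF b hb').1
    let F' : Finset S₀ := insert b F
    have hmem : ∀ w ∈ F', ((w : G)) ∈ S₀ ⊓ centralizer ({(a : G)} : Set G) := by
      intro w hw
      refine mem_inf.mpr ⟨w.2, mem_centralizer_singleton_iff.mpr ?_⟩
      rcases Finset.mem_insert.mp hw with rfl | hw
      · exact congrArg Subtype.val hcomm.symm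
      · exact (hF w hw).2
    have hle := Nat.card_le_card_of_injective (fun w : F' => (⟨(w.1 : G), hmem w.1 w.2⟩ :
      (S₀ ⊓ centralizer ({(a : G)} : Set G) : Subgroup G)))
      (fun w w' e => Subtype.ext (Subtype.ext (congrArg Subtype.val e :)))
    rw [Nat.card_eq_fintype_card, Fintype.card_coe, Finset.card_insert_of_notMem hb', hFcard] at hle
    have := hsmall a ha
    omega
  -- three conjugates in the three nontrivial cosets
  have hDcard : Nat.card D = 4 := le_antisymm hD4 (hcos ⟨t, htS⟩ (IsConj.refl t)).1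
  have hidx : D.index = 4 := by
    have := D.card_mul_index
    rw [hDcard, hS16] at this
    omega
  have hcardQ : Nat.card (S₀ ⧸ D) = 4 := hidx
  -- the quotient is not cyclic
  have hncyc : ∀ q : S₀ ⧸ D, orderOf q ≠ 4 := by
    intro q h4
    obtain ⟨c, rfl⟩ := QuotientGroup.mk'_surjective D q
    set W := zpowers z with hW
    haveI : W.Normal := ⟨fun w hw g => by
      have hwc : w ∈ center S₀ := (zpowers_le.mpr hzc : W ≤ center S₀) hw
      rw [mem_center_iff.mp hwc g, mul_inv_cancel_right]; exact hw⟩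
    set π := QuotientGroup.mk' W with hπ
    have hWD : W ≤ D := zpowers_le.mpr hzD
    have hD2 : Nat.card (D.map π) = 2 := by
      have h := D.card_eq_card_quotient_mul_card_subgroup
      have hh := (D.map π).card_mul_index
      rw [index_map_eq _ (QuotientGroup.mk'_surjective W) (by rw [QuotientGroup.ker_mk']; exact hWD), hidx] at hh
      have hW' := W.card_eq_card_quotient_mul_card_subgroup
      rw [hS16, Nat.card_zpowers, hz2] at hW'
      omega
    have hDc : ∀ d ∈ D, ∀ y, Commute (π d) y := by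
      intro d hd y
      obtain ⟨x, y', hxy⟩ := Nat.card_eq_two_iff.mp hD2
      by_cases hd1 : π d = 1
      · rw [hd1]; exact Commute.one_left y
      have hconjmem : y * π d * y⁻¹ ∈ D.map π :=
        (Subgroup.Normal.map inferInstance π (QuotientGroup.mk'_surjective W)).conj_mem _ (mem_map_of_mem π hd) y
      have hne1 : y * π d * y⁻¹ ≠ 1 := fun e => hd1 (conj_eq_one_iff.mp e)
      have hsub : ∀ a b : D.map π, a ≠ 1 → b ≠ 1 → a = b := by
        intro a b ha hb
        obtain ⟨hxy', huniv⟩ := hxy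
        have hmem : ∀ w : D.map π, w = x ∨ w = y' := fun w => by
          have := huniv.symm ▸ Set.mem_univ w
          simpa using this
        rcases hmem 1 with e | e <;> rcases hmem a with e' | e' <;> rcases hmem b with e'' | e'' <;>
          first | (exact absurd (e'.trans e.symm) ha) | (exact absurd (e''.trans e.symm) hb) | (exact e'.trans e''.symm)
      have := congrArg Subtype.val (hsub ⟨_, hconjmem⟩ ⟨_, mem_map_of_mem π hd⟩
        (fun e => hne1 (congrArg Subtype.val e)) (fun e => hd1 (congrArg Subtype.val e)))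
      exact (mul_inv_eq_iff_eq_mul.mp this).symm
    have hgen : ∀ s : S₀, ∃ i : ℤ, (c ^ i)⁻¹ * s ∈ D := by
      intro s
      have htop := (card_eq_iff_eq_top (zpowers (QuotientGroup.mk' D c))).mp (by rw [Nat.card_zpowers, h4, hcardQ])
      obtain ⟨i, hi⟩ := mem_zpowers_iff.mp (htop ▸ mem_top (QuotientGroup.mk' D s) : _ ∈ zpowers (QuotientGroup.mk' D c))
      rw [← map_zpow] at hi
      exact ⟨i, QuotientGroup.eq.mp hi⟩
    have hab : ∀ x y : S₀, Commute (π x) (π y) := by
      intro x y
      obtain ⟨i, hi⟩ := hgen x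
      obtain ⟨j, hj⟩ := hgen y
      have h1 := hDc _ hi
      have h2 := hDc _ hj
      rw [show π x = (π c) ^ i * π ((c ^ i)⁻¹ * x) by rw [← map_zpow, ← map_mul, mul_inv_cancel_left],
        show π y = (π c) ^ j * π ((c ^ j)⁻¹ * y) by rw [← map_zpow, ← map_mul, mul_inv_cancel_left]]
      exact (((Commute.refl (π c)).zpow_zpow i j).mul_right ((h2 _).symm)).mul_left ((h1 _))
    have hle : D ≤ W := by
      rw [hD, _root_.commutator_def, commutator_le]
      intro x _ y _
      rw [← QuotientGroup.eq_one_iff, ← QuotientGroup.mk'_apply, map_commutatorElement, commutatorElement_eq_one_iff_mul_comm]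
      exact hab x y
    have := card_le_of_le hle
    rw [hDcard, Nat.card_zpowers, hz2] at this
    omega
  have hmaxQ : ∀ q : S₀ ⧸ D, q ≠ 1 → q * q = 1 → ∃ w : S₀, IsConj t (w : G) ∧ (w : S₀ ⧸ D) = q := by
    intro q hq hqq
    set M := (zpowers q).comap (QuotientGroup.mk' D) with hM
    have hMi : M.index = 2 := by
      rw [hM, index_comap_of_surjective _ (QuotientGroup.mk'_surjective D)]
      have := (zpowers q).card_mul_index
      rw [hcardQ, Nat.card_zpowers, orderOf_eq_prime (by rw [pow_two, hqq]) hq] at this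
      omega
    obtain ⟨w, hw, hwc⟩ := hmax M hMi
    refine ⟨w, hwc, ?_⟩
    obtain ⟨i, hi⟩ := mem_zpowers_iff.mp hw
    rcases Int.even_or_odd i with ⟨j, rfl⟩ | ⟨j, rfl⟩
    · rw [← two_mul, zpow_mul, zpow_two, hqq, one_zpow] at hi
      exact absurd ((QuotientGroup.eq_one_iff w).mp hi.symm) (hnotD w hwc)
    · rw [zpow_add, zpow_mul, zpow_two, hqq, one_zpow, one_mul, zpow_one] at hi
      exact hi.symm
  -- `t` and two more
  set q₀ : S₀ ⧸ D := ((⟨t, htS⟩ : S₀) : S₀ ⧸ D) with hq₀
  have htD : (⟨t, htS⟩ : S₀) ∉ D := hnotD _ (IsConj.refl t)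
  have hq0 : q₀ ≠ 1 := fun e => htD ((QuotientGroup.eq_one_iff _).mp e)
  obtain ⟨q₁, hq₁⟩ : ∃ q : S₀ ⧸ D, q ∉ zpowers q₀ := by
    by_contra hcon
    push Not at hcon
    have h1 : Nat.card (zpowers q₀) = 4 := by
      rw [(eq_top_iff' (zpowers q₀)).mpr hcon, card_top, hcardQ]
    have h2 : orderOf q₀ ∣ 2 := orderOf_dvd_of_pow_eq_one (by
      rw [pow_two, hq₀, ← QuotientGroup.mk_mul, hinv _ (IsConj.refl t)]; rfl)
    rw [Nat.card_zpowers] at h1
    rw [h1] at h2
    norm_num at h2
  have hsq : ∀ q : S₀ ⧸ D, q ∉ zpowers q₀ → q * q = 1 := by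
    intro q hq
    by_contra hne
    apply hncyc q
    have hd : orderOf q ∣ 2 ^ 2 := (hcardQ.trans (by norm_num : (4 : ℕ) = 2 ^ 2)) ▸ orderOf_dvd_natCard q
    obtain ⟨i, hi, hi'⟩ := (Nat.dvd_prime_pow Nat.prime_two).mp hd
    interval_cases i
    · exact absurd (by rw [pow_zero, orderOf_eq_one_iff] at hi'; rw [hi', mul_one]) hne
    · exact absurd (by rw [← pow_two]; exact orderOf_dvd_iff_pow_eq_one.mp (hi' ▸ dvd_rfl)) hne
    · exact hi'
  have h1 := hsq q₁ hq₁
  have hq1 : q₁ ≠ 1 := fun e => hq₁ (e ▸ one_mem _)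
  obtain ⟨w₁, hw₁, hw₁q⟩ := hmaxQ q₁ hq1 h1
  have hq01 : q₀ * q₁ ∉ zpowers q₀ := fun h => hq₁ ((mul_mem_cancel_left (mem_zpowers q₀)).mp h)
  obtain ⟨w₂, hw₂, hw₂q⟩ := hmaxQ (q₀ * q₁) (fun e => hq01 (by rw [e]; exact one_mem _)) (hsq _ hq01)
  have hprod : IsConj t (((⟨t, htS⟩ : S₀) * w₁ : S₀) : G) := by
    refine hclass w₂ hw₂ _ ?_
    rw [← QuotientGroup.eq, hw₂q, QuotientGroup.mk_mul, hw₁q]
  obtain hmem := hQ ⟨t, htS⟩ (IsConj.refl t) w₁ hw₁ hprod
  have hmem' := mem_map_of_mem (QuotientGroup.mk' D) hmem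
  rw [Subgroup.map_sup, MonoidHom.map_zpowers, (map_eq_bot_iff D).mpr (QuotientGroup.ker_mk' D).ge, sup_bot_eq] at hmem'
  exact hq₁ (hw₁q ▸ hmem')

end CfsgLib.Sieve.PrimeLocal
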