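import Cfsg.Agent.Sieve.DegreeFour
import Cfsg.Agent.Sieve.Sixteen
import Cfsg.Agent.SylowToolkit.Intersection
import Cfsg.Agent.SmallSimple.Basic
import Cfsg.Agent.Chars.Apps.Burnside
import Mathlib

/-!
# Orders of simple groups up to 1092
-/

set_option autoImplicit false
set_option linter.style.haveILetI false

namespace CfsgLib.Sieve.Order1092

open CfsgLib.SylowToolkit CfsgLib.Sieve.PrimeLocal Subgroup

universe u

/-- The primes below 34. -/
def primesList : List ℕ := [2, 3, 5, 7, 11, 13, 17, 19, 23, 29, 31]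

/-- The exponent of `p` in `N`, up to 11. -/
def expOf (p N : ℕ) : ℕ := ((List.range 11).filter fun i => decide (N % p ^ (i + 1) = 0)).length

/-- `i` may be the index of a proper subgroup. -/
def factOk (N i : ℕ) : Bool := decide (40 ≤ i) || decide (i.factorial % (2 * N) = 0)

/-- Options after the normalizer bound in degree `p + 1`. -/
def options' (p m : ℕ) : List (ℕ × ℕ × ℕ) :=
  (options p m).filter fun o =>
    !(decide (o.1 = p + 1) && decide (p ≠ 2) && decide (p * (p - 1) % (2 * (p * (m / o.1))) ≠ 0))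

/-- The candidates for a Sylow number above one. -/
def cands (p m : ℕ) : List ℕ :=
  ((List.range (m / p + 1)).filter fun j => decide (1 ≤ j) && decide (m % (p * j + 1) = 0)).map fun j => p * j + 1

/-- The prime `p` with exponent `k` excludes the order `N`. -/
def deadPrime (N p k : ℕ) : Bool :=
  if k = 1 then decide (options' p (N / p) = [])
  else (cands p (N / p ^ k)).all fun n => !factOk N n || (decide (n % (p * p) ≠ 1) &&
    (cands p (N / p ^ k)).all fun j => (List.range (N / p ^ k / j + 1)).all fun i =>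
      !(decide (2 ≤ i) && decide (N / p ^ k / j % i = 0) && factOk N i))

/-- The orders needing more than the sieve. -/
def specialOrders : List ℕ := [60, 168, 360, 504, 660, 1092, 420, 720, 840, 1008, 1080]

theorem sieve : ((List.range 1093).all fun N => decide (N ≤ 1) || decide (N % 4 = 2) ||
    !decide ((primesList.prod ^ 11) % N = 0) ||
    decide ((primesList.filter fun p => decide (N % p = 0)).length ≤ 2) || specialOrders.contains N ||
    (primesList.any fun p => decide (N % p = 0) && deadPrime N p (expOf p N))) = true := by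
  decide +kernel

theorem primesList_prime : ∀ p ∈ primesList, p.Prime := by decide

theorem mem_primesList : ∀ q < 34, q.Prime → q ∈ primesList := by decide

section
variable {G : Type u} [Group G] [Finite G] [IsSimpleGroup G]

theorem factOk_index (hc : ¬ IsMulCommutative G) {H : Subgroup G} (hH : H ≠ ⊤) : factOk (Nat.card G) H.index = true := by
  by_cases h : 40 ≤ H.index
  · simp [factOk, h]
  · simp [factOk, Nat.mod_eq_zero_of_dvd (two_mul_card_dvd_factorial_index hc hH)]

theorem mem_options' (hc : ¬ IsMulCommutative G) (hd : Nat.card G < 90000) (p m : ℕ) [hp : Fact p.Prime]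
    (hcard : Nat.card G = p * m) (hm : ¬ p ∣ m) : ∃ o ∈ options' p m, HasLocal G p o.1 o.2.2 := by
  obtain ⟨o, ho, L⟩ := exists_option hc hd p m hcard hm
  refine ⟨o, List.mem_filter.mpr ⟨ho, ?_⟩, L⟩
  by_contra hcon
  simp only [Bool.not_eq_true, Bool.not_eq_false', Bool.and_eq_true, decide_eq_true_eq] at hcon
  obtain ⟨⟨h1, h2⟩, h3⟩ := hcon
  obtain ⟨P⟩ := (inferInstance : Nonempty (Sylow p G))
  have hN := SmallSimple.two_mul_card_normalizer_dvd hc p h2 P (L.2 P).1
    (normalizer ((P : Subgroup G) : Set G)) (.inr (P.card_eq_index_normalizer.symm.trans (L.1.trans h1)))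
  have hmul := card_normalizer_mul P
  rw [L.1, hcard] at hmul
  have ho0 : 0 < o.1 := by omega
  have hnm : o.1 ∣ m := L.1 ▸ card_sylow_dvd (k := 1) (by simpa using hcard) hm
  obtain ⟨j, hj⟩ := hnm
  rw [show Nat.card (normalizer ((P : Subgroup G) : Set G)) = p * (m / o.1) by
    rw [hj, Nat.mul_div_cancel_left _ ho0]
    exact Nat.eq_of_mul_eq_mul_right ho0 (hmul.trans (by rw [hj]; ring))] at hN
  exact h3 (Nat.mod_eq_zero_of_dvd hN)

theorem mem_cands {p m n : ℕ} (hp : 0 < p) (hm : m ≠ 0) (hn : n ∣ m) (hmod : n % p = 1) (h1 : 1 < n) :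
    n ∈ cands p m := by
  obtain ⟨j, rfl⟩ : ∃ j, n = p * j + 1 := ⟨n / p, by have := Nat.div_add_mod n p; omega⟩
  simp only [cands, List.mem_map, List.mem_filter, List.mem_range, Bool.and_eq_true, decide_eq_true_eq]
  refine ⟨j, ⟨Nat.lt_succ_of_le ((Nat.le_div_iff_mul_le hp).mpr ?_), ?_, Nat.mod_eq_zero_of_dvd hn⟩, rfl⟩
  · have := Nat.le_of_dvd (Nat.pos_of_ne_zero hm) hn
    rw [mul_comm j p]
    omega
  · rcases Nat.eq_zero_or_pos j with rfl | h
    · simp at h1
    · exact h

theorem not_deadPrime (hc : ¬ IsMulCommutative G) (hd : Nat.card G < 90000) (p k : ℕ) [hp : Fact p.Prime]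
    {m : ℕ} (hcard : Nat.card G = p ^ k * m) (hm : ¬ p ∣ m) (hk : k ≠ 0) :
    deadPrime (Nat.card G) p k = false := by
  have hdiv : Nat.card G / p ^ k = m := by rw [hcard, Nat.mul_div_cancel_left _ (pow_pos hp.out.pos k)]
  have hm0 : m ≠ 0 := fun e => hm (e ▸ dvd_zero p)
  by_cases hk1 : k = 1
  · subst hk1
    rw [pow_one] at hcard hdiv
    obtain ⟨o, ho, -⟩ := mem_options' hc hd p m hcard hm
    simp only [deadPrime, if_pos, decide_eq_false_iff_not, hdiv]
    exact fun e => List.not_mem_nil (e ▸ ho)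
  by_contra hdead
  simp only [Bool.not_eq_false, deadPrime, if_neg hk1, hdiv, List.all_eq_true, Bool.or_eq_true, Bool.and_eq_true,
    decide_eq_true_eq, Bool.not_eq_true', List.mem_range] at hdead
  obtain ⟨P⟩ := (inferInstance : Nonempty (Sylow p G))
  have hdvd : p ∣ Nat.card G := hcard ▸ dvd_mul_of_dvd_left (dvd_pow_self p hk) m
  have hn := mem_cands hp.out.pos hm0 (card_sylow_dvd hcard hm) card_sylow_mod (one_lt_card_sylow hc hdvd)
  have hfact : factOk (Nat.card G) (Nat.card (Sylow p G)) = true := by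
    rw [P.card_eq_index_normalizer]
    exact factOk_index hc (normalizer_sylow_ne_top hc hdvd P)
  rcases hdead _ hn with h | ⟨h1, h2⟩
  · rw [hfact] at h; exact Bool.noConfusion h
  have hPk : Nat.card (P : Subgroup G) = p ^ k := card_sylow_subgroup_eq hcard hm P
  obtain ⟨H, hH, hPH, hHn⟩ := exists_subgroup_of_not_modEq hc P
    (by
      rw [hPk]
      exact fun e => hk1 (Nat.pow_right_injective hp.out.two_le (e.trans (pow_one p).symm)))
    (fun e => h1 (by
      have e' : Nat.card (Sylow p G) % p ^ 2 = 1 % p ^ 2 := e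
      rw [pow_two, Nat.one_mod_eq_one.mpr (fun e1 => hp.out.ne_one (mul_eq_one.mp e1).1)] at e'
      exact e'))
  obtain ⟨t, ht⟩ := hPH
  rw [hPk] at ht
  have hti := H.card_mul_index
  rw [ht, hcard, mul_assoc] at hti
  have htm : t * H.index = m := Nat.eq_of_mul_eq_mul_left (pow_pos hp.out.pos k) hti
  have htp : ¬ p ∣ t := fun e => hm (e.trans ⟨_, htm.symm⟩)
  have hj := mem_cands (p := p) hp.out.pos hm0 ((card_sylow_dvd ht htp).trans ⟨_, htm.symm⟩) card_sylow_mod hHn
  have hi2 : 2 ≤ H.index := by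
    have h0 := H.index_ne_zero_of_finite
    have h1' : H.index ≠ 1 := fun e => hH (index_eq_one.mp e)
    omega
  have hidvd : H.index ∣ m / Nat.card (Sylow p H) := by
    obtain ⟨r, hr⟩ := card_sylow_dvd ht htp
    rw [← htm, hr, mul_assoc, Nat.mul_div_cancel_left _ Nat.card_pos]
    exact dvd_mul_left _ _
  have hlt : H.index < m / Nat.card (Sylow p H) + 1 := by
    refine Nat.lt_succ_of_le (Nat.le_of_dvd ?_ hidvd)
    exact Nat.div_pos (Nat.le_of_dvd (Nat.pos_of_ne_zero hm0) ((card_sylow_dvd ht htp).trans ⟨_, htm.symm⟩)) Nat.card_pos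
  have hfalse := h2 _ hj _ hlt
  simp only [Bool.and_eq_false_iff, decide_eq_false_iff_not, factOk_index hc hH, Bool.true_eq_false, or_false] at hfalse
  rcases hfalse with h | h
  · exact h hi2
  · exact h (Nat.mod_eq_zero_of_dvd hidvd)

/-- An involution centralizing a Sylow subgroup of order `p` with `|C(P)| = 2 p`. -/
theorem exists_involution (hc : ¬ IsMulCommutative G) {p n : ℕ} [hp : Fact p.Prime] (hp2 : p ≠ 2)
    (L : HasLocal G p n 2) :
    ∃ t : G, orderOf t = 2 ∧ (centralizer ({t} : Set G)).index ∣ n ∧ (centralizer ({t} : Set G)).index ≠ 1 ∧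
      n / (centralizer ({t} : Set G)).index % p = 1 ∧
      factOk (Nat.card G) (centralizer ({t} : Set G)).index = true := by
  haveI : Fact (Nat.Prime 2) := ⟨Nat.prime_two⟩
  obtain ⟨P⟩ := (inferInstance : Nonempty (Sylow p G))
  obtain ⟨t, ht, -, hle⟩ := exists_normalized (q := 2) L hp2 (dvd_refl 2) (by norm_num) (by decide) P
  refine ⟨t, ht, ?_⟩
  set T := centralizer ({t} : Set G)
  have hNT : normalizer ((P : Subgroup G) : Set G) ≤ T := by
    intro g hg
    rw [mem_centralizer_singleton_iff]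
    obtain ⟨i, hi⟩ := mem_zpowers_iff.mp ((mem_normalizer_iff.mp (hle hg) t).mp (mem_zpowers t))
    have ht2 : t ^ (2 : ℤ) = 1 := by
      rw [show (2 : ℤ) = ((2 : ℕ) : ℤ) from rfl, zpow_natCast, ← ht]; exact pow_orderOf_eq_one t
    rcases Int.even_or_odd i with ⟨j, rfl⟩ | ⟨j, rfl⟩
    · rw [← two_mul, zpow_mul, ht2, one_zpow] at hi
      exfalso
      have : t = 1 := conj_eq_one_iff.mp hi.symm
      rw [this, orderOf_one] at ht
      norm_num at ht
    · rw [zpow_add, zpow_mul, ht2, one_zpow, one_mul, zpow_one] at hi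
      exact mul_inv_eq_iff_eq_mul.mp hi.symm
  have hPT : (P : Subgroup G) ≤ T := le_normalizer.trans hNT
  have h1 : Nat.card (Sylow p T) * T.index = n := by
    rw [(P.subtype hPT).card_eq_index_normalizer]
    show (normalizer ((((P : Subgroup G).subgroupOf T) : Subgroup T) : Set T)).index * _ = _
    rw [← subgroupOf_normalizer_eq hPT, ← L.1, P.card_eq_index_normalizer]
    exact relIndex_mul_index hNT
  have hne : T.index ≠ 1 := by
    intro e
    have hZ : t ∈ center G := by
      rw [mem_center_iff]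
      intro g
      exact (mem_centralizer_singleton_iff.mp ((index_eq_one.mp e).symm ▸ mem_top g : g ∈ T))
    rcases IsSimpleGroup.eq_bot_or_eq_top_of_normal (center G) inferInstance with hb' | ht'
    · rw [hb', mem_bot] at hZ
      rw [hZ, orderOf_one] at ht
      norm_num at ht
    · exact hc ⟨⟨fun x y => (mem_center_iff.mp (ht' ▸ mem_top y : y ∈ center G) x)⟩⟩
  refine ⟨⟨_, by rw [mul_comm]; exact h1.symm⟩, hne, ?_, factOk_index hc (fun e => hne (index_eq_one.mpr e))⟩
  rw [← h1, Nat.mul_div_cancel _ (Nat.pos_of_ne_zero T.index_ne_zero_of_finite)]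
  exact card_sylow_mod

/-- The elements whose order is divisible by `p`, when the Sylow `p`-subgroups have order `p`. -/
theorem le_card_dvd_orderOf {p n c : ℕ} [hp : Fact p.Prime] (L : HasLocal G p n c) (hpc : ¬ p ∣ c) :
    n * ((p - 1) * c) ≤ Nat.card {g : G // p ∣ orderOf g} := by
  classical
  let C : Sylow p G → Subgroup G := fun P => centralizer ((P : Subgroup G) : Set G)
  have hcop : ∀ P : Sylow p G, Nat.Coprime (Nat.card (P : Subgroup G)) c := fun P => by
    rw [(L.2 P).1]; exact (Nat.Prime.coprime_iff_not_dvd hp.out).mpr hpc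
  have hPC : ∀ P : Sylow p G, (P : Subgroup G) ≤ C P := by
    intro P x hx
    have hcyc : IsCyclic (P : Subgroup G) := isCyclic_of_prime_card (L.2 P).1
    exact mem_centralizer_iff.mpr fun y hy => congrArg Subtype.val (hcyc.commGroup.mul_comm ⟨y, hy⟩ ⟨x, hx⟩)
  have hpowP : ∀ (P : Sylow p G) (x : G), x ∈ C P → x ^ c ∈ (P : Subgroup G) := by
    intro P x hx
    have hnormal : ((P : Subgroup G).subgroupOf (C P)).Normal := ⟨fun a ha b => by
      show (b : G) * a * (b : G)⁻¹ ∈ (P : Subgroup G)
      rw [← mem_centralizer_iff.mp b.2 (a : G) ha, mul_inv_cancel_right]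
      exact ha⟩
    have hidx : ((P : Subgroup G).subgroupOf (C P)).index = c := by
      have h1 := ((P : Subgroup G).subgroupOf (C P)).card_mul_index
      rw [Nat.card_congr (subgroupOfEquivOfLe (hPC P)).toEquiv, (L.2 P).1, (L.2 P).2] at h1
      exact Nat.eq_of_mul_eq_mul_left hp.out.pos h1
    have h2 := Subgroup.pow_index_mem ((P : Subgroup G).subgroupOf (C P)) (⟨x, hx⟩ : C P)
    rw [hidx] at h2
    exact h2
  let B : Sylow p G → Type u := fun P => {x : C P // (x : G) ^ c ≠ 1}
  have hB : ∀ P, (p - 1) * c ≤ Nat.card (B P) := by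
    intro P
    let F : {x : C P // (x : G) ^ c = 1} × (P : Subgroup G) → C P := fun a =>
      ⟨(a.1.1 : G) * (a.2 : G), mul_mem a.1.1.2 (hPC P a.2.2)⟩
    have hF : Function.Injective F := by
      rintro ⟨⟨x, hx⟩, y⟩ ⟨⟨x', hx'⟩, y'⟩ e
      have e' : (x : G) * y = x' * y' := congrArg Subtype.val e
      have hc1 : Commute (x : G) y := (mem_centralizer_iff.mp x.2 (y : G) y.2).symm
      have hc2 : Commute (x' : G) y' := (mem_centralizer_iff.mp x'.2 (y' : G) y'.2).symm
      have e'' := congrArg (fun g : G => g ^ c) e'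
      simp only [hc1.mul_pow, hc2.mul_pow, hx, hx', one_mul] at e''
      have hy : y = y' := (powCoprime (hcop P)).injective (Subtype.ext (by simpa using e''))
      subst hy
      exact Prod.ext (Subtype.ext (Subtype.ext (mul_right_cancel e'))) rfl
    have h1 := Nat.card_le_card_of_injective F hF
    rw [Nat.card_prod, (L.2 P).1, (L.2 P).2] at h1
    have h2 : Nat.card {x : C P // (x : G) ^ c = 1} ≤ c := Nat.le_of_mul_le_mul_right (by rw [mul_comm c]; exact h1) hp.out.pos
    haveI := Fintype.ofFinite (C P)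
    have h3 : Nat.card (B P) = p * c - Nat.card {x : C P // (x : G) ^ c = 1} := by
      have h := (L.2 P).2
      rw [Nat.card_eq_fintype_card] at h
      rw [show Nat.card (B P) = Fintype.card {x : C P // ¬ (x : G) ^ c = 1} from Nat.card_eq_fintype_card,
        Fintype.card_subtype_compl, Nat.card_eq_fintype_card, h]
    rw [h3, Nat.sub_mul, one_mul]
    omega
  let f : (Σ P, B P) → {g : G // p ∣ orderOf g} := fun a => ⟨(a.2.1 : G), by
    by_contra hnd
    apply a.2.2
    rw [← orderOf_dvd_iff_pow_eq_one]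
    have hd : orderOf (a.2.1 : G) ∣ p * c := (L.2 a.1).2 ▸ Subgroup.orderOf_dvd_natCard _ a.2.1.2
    exact ((Nat.Prime.coprime_iff_not_dvd hp.out).mpr hnd).symm.dvd_of_dvd_mul_left hd⟩
  have hf : Function.Injective f := by
    rintro ⟨P, ⟨x, hx⟩, hxc⟩ ⟨Q, ⟨y, hy⟩, hyc⟩ e
    obtain rfl : x = y := congrArg Subtype.val e
    obtain rfl : P = Q := by
      have key : ∀ R : Sylow p G, x ∈ C R → zpowers (x ^ c) = (R : Subgroup G) := by
        intro R hR
        refine eq_of_le_of_card_ge (zpowers_le.mpr (hpowP R x hR)) ?_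
        rw [(L.2 R).1, Nat.card_zpowers]
        rcases (Nat.dvd_prime hp.out).mp ((L.2 R).1 ▸ Subgroup.orderOf_dvd_natCard _ (hpowP R x hR)) with e1 | e1
        · exact absurd (orderOf_eq_one_iff.mp e1) hxc
        · exact e1.ge
      exact Sylow.ext ((key P hx).symm.trans (key Q hy))
    rfl
  have hle := Nat.card_le_card_of_injective f hf
  haveI := Fintype.ofFinite (Sylow p G)
  rw [Nat.card_sigma] at hle
  refine le_trans ?_ hle
  refine le_trans (le_of_eq ?_) (Finset.sum_le_sum fun P _ => hB P)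
  rw [Finset.sum_const, Finset.card_univ, ← Nat.card_eq_fintype_card, L.1, smul_eq_mul]

theorem no_common_multiple {p q n n' c c' : ℕ} [hp : Fact p.Prime] [hq : Fact q.Prime] (P : HasLocal G p n c)
    (hpq : p ≠ q) (hqc : ¬ q ∣ c) (g : G) (h1 : p ∣ orderOf g) : ¬ q ∣ orderOf g := by
  intro h2
  obtain ⟨k, hk⟩ := ((Nat.coprime_primes hp.out hq.out).mpr hpq).mul_dvd_of_dvd_of_dvd h1 h2
  have hk0 : k ≠ 0 := fun e => (orderOf_pos g).ne' (by rw [hk, e, mul_zero])
  have hx : orderOf (g ^ (q * k)) = p := by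
    rw [orderOf_pow, hk, show p * q * k = q * k * p by ring, Nat.gcd_mul_right_left,
      Nat.mul_div_cancel_left _ (Nat.mul_pos hq.out.pos (Nat.pos_of_ne_zero hk0))]
  have hy : orderOf (g ^ (p * k)) = q := by
    rw [orderOf_pow, hk, show p * q * k = p * k * q by ring, Nat.gcd_mul_right_left,
      Nat.mul_div_cancel_left _ (Nat.mul_pos hp.out.pos (Nat.pos_of_ne_zero hk0))]
  obtain ⟨R, hR⟩ := exists_zpowers_eq_sylow P hx
  have hmem : g ^ (p * k) ∈ centralizer ((R : Subgroup G) : Set G) := by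
    rw [hR, mem_centralizer_iff]
    intro b hb
    obtain ⟨i, rfl⟩ := mem_zpowers_iff.mp hb
    exact ((Commute.pow_pow (Commute.refl g) _ _).zpow_left i).eq
  have := Subgroup.orderOf_dvd_natCard _ hmem
  rw [hy, (P.2 R).2] at this
  exact hqc ((hq.out.dvd_mul.mp this).resolve_left fun h => hpq ((Nat.prime_dvd_prime_iff_eq hq.out hp.out).mp h).symm)

theorem card_add_card_le_of_disjoint (A B : G → Prop) (h : ∀ g, A g → ¬ B g) :
    Nat.card {g : G // A g} + Nat.card {g : G // B g} ≤ Nat.card {g : G // A g ∨ B g} := by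
  classical
  haveI := Fintype.ofFinite G
  simp only [Nat.card_eq_fintype_card]
  exact (Fintype.card_subtype_or_disjoint A B (Pi.disjoint_iff.mpr fun g => Prop.disjoint_iff.mpr fun ⟨a, b⟩ => h g a b)).ge

theorem count_two_three_five_seven {n3 c3 n5 c5 n7 c7 : ℕ} [Fact (Nat.Prime 3)] [Fact (Nat.Prime 5)]
    [Fact (Nat.Prime 7)] (A : HasLocal G 3 n3 c3) (B : HasLocal G 5 n5 c5) (C : HasLocal G 7 n7 c7)
    (h3 : ¬ 3 ∣ c3 ∧ ¬ 5 ∣ c3 ∧ ¬ 7 ∣ c3) (h5 : ¬ 5 ∣ c5 ∧ ¬ 7 ∣ c5) (h7 : ¬ 7 ∣ c7) :
    n3 * (2 * c3) + n5 * (4 * c5) + n7 * (6 * c7) +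
      Nat.card {g : G // ¬ (3 ∣ orderOf g ∨ 5 ∣ orderOf g ∨ 7 ∣ orderOf g)} ≤ Nat.card G := by
  classical
  have a := le_card_dvd_orderOf A h3.1
  have b := le_card_dvd_orderOf B h5.1
  have c := le_card_dvd_orderOf C h7
  have s1 := card_add_card_le_of_disjoint (G := G) (fun g => 5 ∣ orderOf g) (fun g => 7 ∣ orderOf g)
    fun g hg => no_common_multiple (n' := 0) (c' := 0) B (by norm_num) h5.2 g hg
  have s2 := card_add_card_le_of_disjoint (G := G) (fun g => 3 ∣ orderOf g) (fun g => 5 ∣ orderOf g ∨ 7 ∣ orderOf g)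
    fun g hg => not_or.mpr ⟨no_common_multiple (n' := 0) (c' := 0) A (by norm_num) h3.2.1 g hg,
      no_common_multiple (n' := 0) (c' := 0) A (by norm_num) h3.2.2 g hg⟩
  haveI := Fintype.ofFinite G
  have e := Fintype.card_subtype_compl (fun g : G => 3 ∣ orderOf g ∨ 5 ∣ orderOf g ∨ 7 ∣ orderOf g)
  have le := Fintype.card_subtype_le (fun g : G => 3 ∣ orderOf g ∨ 5 ∣ orderOf g ∨ 7 ∣ orderOf g)
  simp only [Nat.card_eq_fintype_card] at a b c s1 s2 ⊢
  norm_num at a b c
  omega

theorem not_1080 (hc : ¬ IsMulCommutative G) (h : Nat.card G = 1080) : False := by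
  classical
  haveI : Fact (Nat.Prime 5) := ⟨by norm_num⟩
  haveI : Fact (Nat.Prime 3) := ⟨Nat.prime_three⟩
  obtain ⟨o, ho, L⟩ := mem_options' hc (by rw [h]; norm_num) 5 216 (by rw [h]) (by norm_num)
  have ho' : o.2.2 = 3 := (show ∀ o ∈ options' 5 216, o.2.2 = 3 by decide +kernel) o ho
  rw [ho'] at L
  obtain ⟨P3⟩ := (inferInstance : Nonempty (Sylow 3 G))
  have hcard : Nat.card G = 3 ^ 3 * 40 := by rw [h]; norm_num
  have h27 : Nat.card (P3 : Subgroup G) = 27 := by
    simpa using card_sylow_subgroup_eq hcard (by norm_num) P3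
  have hdvd : 3 ∣ Nat.card G := by rw [h]; norm_num
  obtain ⟨H, hH⟩ : ∃ H : Subgroup G, H.index = 10 := by
    have hn : Nat.card (Sylow 3 G) ∈ [10, 40] := by
      have h1 := mem_cands (p := 3) (by norm_num) (by norm_num : (40 : ℕ) ≠ 0) (card_sylow_dvd hcard (by norm_num))
        card_sylow_mod (one_lt_card_sylow hc hdvd)
      have h2 : factOk 1080 (Nat.card (Sylow 3 G)) = true := by
        rw [P3.card_eq_index_normalizer, ← h]
        exact factOk_index hc (normalizer_sylow_ne_top hc hdvd P3)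
      exact (show ∀ n ∈ cands 3 40, factOk 1080 n = true → n ∈ [10, 40] by decide +kernel) _ h1 h2
    simp only [List.mem_cons, List.not_mem_nil, or_false] at hn
    rcases hn with e | e
    · exact ⟨normalizer ((P3 : Subgroup G) : Set G), P3.card_eq_index_normalizer.symm.trans e⟩
    · obtain ⟨K, hK, hPK, hKn⟩ := exists_subgroup_of_not_modEq hc P3 (by rw [h27]; norm_num)
        (by rw [e]; decide)
      refine ⟨K, ?_⟩
      obtain ⟨t, ht⟩ := hPK
      rw [h27] at ht
      have hti := K.card_mul_index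
      rw [ht, h, mul_assoc] at hti
      have htm : t * K.index = 40 := by omega
      have hj := card_sylow_dvd (k := 3) (m := t) (by rw [ht]; norm_num) (fun e' => by
        have := e'.trans (Dvd.intro _ htm : t ∣ 40); norm_num at this) (p := 3) (G := K)
      have hmod : Nat.card (Sylow 3 K) % 3 = 1 := card_sylow_mod
      have hf := factOk_index hc hK
      rw [h] at hf
      have key : ∀ i ∈ (40 : ℕ).divisors, ∀ j ∈ (40 : ℕ).divisors, 1 < j → j % 3 = 1 → 40 / i % j = 0 →
          factOk 1080 i = true → i = 10 := by decide +kernel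
      refine key _ (Nat.mem_divisors.mpr ⟨Dvd.intro_left _ htm, by norm_num⟩) _
        (Nat.mem_divisors.mpr ⟨hj.trans (Dvd.intro _ htm), by norm_num⟩) hKn hmod ?_ hf
      rw [← htm, Nat.mul_div_cancel _ (Nat.pos_of_ne_zero K.index_ne_zero_of_finite)]
      exact Nat.mod_eq_zero_of_dvd hj
  -- commuting elements of orders 5 and 3 on ten points
  obtain ⟨P⟩ := (inferInstance : Nonempty (Sylow 5 G))
  obtain ⟨⟨x, hxP⟩, hx⟩ := exists_prime_orderOf_dvd_card' (G := (P : Subgroup G)) 5 (by rw [(L.2 P).1])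
  obtain ⟨⟨z, hzC⟩, hz⟩ := exists_prime_orderOf_dvd_card' (G := centralizer ((P : Subgroup G) : Set G)) 3
    (by rw [(L.2 P).2]; norm_num)
  rw [orderOf_mk] at hx hz
  have hxz : Commute x z := mem_centralizer_iff.mp hzC x hxP
  let X := G ⧸ H
  have hX : Nat.card X = 10 := hH
  have hfix : ∀ a : X, x • a ≠ a := by
    intro a ha
    obtain ⟨g, rfl⟩ := QuotientGroup.mk_surjective a
    rw [MulAction.Quotient.smul_mk, QuotientGroup.eq] at ha
    have hord : orderOf ((x • g)⁻¹ * g) = 5 := by
      rw [smul_eq_mul, show (x * g)⁻¹ * g = (MulAut.conj g⁻¹).toMonoidHom x⁻¹ by simp [mul_assoc],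
        orderOf_injective _ (MulAut.conj g⁻¹).injective, orderOf_inv, hx]
    have h5 := Subgroup.orderOf_dvd_natCard _ ha
    rw [hord] at h5
    have := H.card_mul_index
    rw [hH, h] at this
    omega
  have h5x : x ^ 5 = 1 := hx ▸ pow_orderOf_eq_one x
  have horb : ∀ a : X, Function.Injective (fun i : Fin 5 => x ^ (i : ℕ) • a) := by
    intro a i j hij
    dsimp only at hij
    by_contra hne
    have key : ∀ i j : Fin 5, i ≠ j → (((i : ℕ) + 4 * (j : ℕ)) % 5) ≠ 0 := by decide
    set d := ((i : ℕ) + 4 * (j : ℕ)) % 5 with hd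
    have hxd : x ^ d • a = a := by
      have h1 : x ^ d = x ^ (4 * (j : ℕ)) * x ^ (i : ℕ) := by
        rw [← pow_add, add_comm, hd]; exact (pow_eq_pow_mod _ h5x).symm
      rw [h1, mul_smul, hij, ← mul_smul, ← pow_add, show 4 * (j : ℕ) + (j : ℕ) = 5 * (j : ℕ) by ring, pow_mul, h5x,
        one_pow, one_smul]
    obtain ⟨e, he⟩ : ∃ e : ℕ, d * e % 5 = 1 :=
      (show ∀ d < 5, d ≠ 0 → ∃ e < 5, d * e % 5 = 1 by decide) d (Nat.mod_lt _ (by norm_num)) (key i j hne) |>.imp
        fun e he => he.2
    apply hfix a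
    have hall : ∀ r : ℕ, (x ^ d) ^ r • a = a := by
      intro r
      induction r with
      | zero => simp
      | succ r ih => rw [pow_succ, mul_smul, hxd, ih]
    have := hall e
    rwa [← pow_mul, pow_eq_pow_mod _ h5x, he, pow_one] at this
  have hz3 : z ^ 3 = 1 := hz ▸ pow_orderOf_eq_one z
  have hcl : ∀ a : X, ∀ i : ℕ, ∃ r : Fin 5, x ^ i • a = x ^ (r : ℕ) • a := fun a i =>
    ⟨⟨i % 5, Nat.mod_lt _ (by norm_num)⟩, by rw [pow_eq_pow_mod _ h5x]⟩
  have hzfix : ∀ a : X, z • a = a := by
    intro a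
    by_cases hin : ∃ i : ℕ, z • a = x ^ i • a
    · obtain ⟨i, hi⟩ := hin
      have h2 : x ^ (3 * i) • a = a := by
        have c1 : Commute z (x ^ i) := (hxz.pow_left i).symm
        calc x ^ (3 * i) • a = x ^ i • (x ^ i • (x ^ i • a)) := by rw [← mul_smul, ← mul_smul, ← pow_add, ← pow_add]; ring_nf
          _ = x ^ i • (x ^ i • (z • a)) := by rw [hi]
          _ = x ^ i • (z • (x ^ i • a)) := by rw [← mul_smul (x ^ i) z a, ← c1.eq, mul_smul]
          _ = z • (x ^ i • (x ^ i • a)) := by
            rw [← mul_smul (x ^ i) z (x ^ i • a), ← c1.eq, mul_smul]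
          _ = z • (x ^ i • (z • a)) := by rw [hi]
          _ = z • (z • (x ^ i • a)) := by
            rw [← mul_smul (x ^ i) z a, ← c1.eq, mul_smul]
          _ = z • (z • (z • a)) := by rw [hi]
          _ = a := by rw [← mul_smul, ← mul_smul, ← pow_two, ← pow_succ, hz3, one_smul]
      obtain ⟨r, hr⟩ := hcl a (3 * i)
      rw [h2] at hr
      have hr0 : r = 0 := (horb a (show x ^ ((0 : Fin 5) : ℕ) • a = x ^ (r : ℕ) • a by simpa using hr)).symm
      obtain ⟨s, hs⟩ := hcl a i
      have : i % 5 = 0 := by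
        have h3 : x ^ (((3 * i) % 5 : ℕ)) • a = x ^ ((0 : Fin 5) : ℕ) • a := by
          rw [← pow_eq_pow_mod _ h5x, h2]; simp
        have := congrArg Fin.val (horb a (a₁ := ⟨(3 * i) % 5, Nat.mod_lt _ (by norm_num)⟩) (a₂ := 0) h3)
        simp at this
        omega
      rw [hi, pow_eq_pow_mod _ h5x, this, pow_zero, one_smul]
    · exfalso
      push Not at hin
      let F : Fin 5 ⊕ Fin 5 → X := Sum.elim (fun i => x ^ (i : ℕ) • a) (fun i => x ^ (i : ℕ) • (z • a))
      have hne : ∀ i j : ℕ, x ^ i • a ≠ x ^ j • (z • a) := by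
        intro i j hij
        apply hin (i + 4 * j)
        rw [add_comm, pow_add, mul_smul, hij, ← mul_smul, ← pow_add, show 4 * j + j = 5 * j by ring, pow_mul, h5x,
          one_pow, one_smul]
      have hF : Function.Injective F := by
        rintro (i | i) (j | j) e
        · exact congrArg Sum.inl (horb a e)
        · exact absurd e (hne _ _)
        · exact absurd e.symm (hne _ _)
        · exact congrArg Sum.inr (horb (z • a) e)
      have hbij : Function.Bijective F := hF.bijective_of_nat_card_le (by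
        rw [hX, Nat.card_eq_fintype_card]; simp)
      obtain ⟨r | r, hr⟩ := hbij.2 (z • (z • a))
      · -- `z a` would lie in the orbit of `a`
        simp only [F, Sum.elim_inl] at hr
        apply hin (2 * (r : ℕ))
        have c1 : Commute (z * z) (x ^ (r : ℕ)) := ((hxz.pow_left _).symm.mul_left (hxz.pow_left _).symm)
        calc z • a = (z * z) • (z • (z • a)) := by
              simp only [← mul_smul]
              rw [show z * z * (z * z) = z ^ 3 * z by simp only [pow_three, mul_assoc], hz3, one_mul]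
          _ = (z * z) • (x ^ (r : ℕ) • a) := by rw [hr]
          _ = x ^ (r : ℕ) • (z • (z • a)) := by rw [← mul_smul, c1.eq, mul_smul, mul_smul]
          _ = x ^ (2 * (r : ℕ)) • a := by rw [← hr, ← mul_smul, ← pow_add, two_mul]
      · simp only [F, Sum.elim_inr] at hr
        apply hin (r : ℕ)
        have : z • (x ^ (r : ℕ) • a) = z • (z • a) := by
          rw [← mul_smul, (hxz.pow_left (r : ℕ)).symm.eq, mul_smul, hr]
        exact (smul_left_cancel z this).symm
  -- the action is faithful
  have hHne : H ≠ ⊤ := fun e => by rw [e, index_top] at hH; norm_num at hH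
  have hinj := toPermHom_quotient_injective (H := H) hHne
  have : z = 1 := hinj (Equiv.ext fun a => (hzfix a).trans (one_smul G a).symm)
  rw [this, orderOf_one] at hz
  norm_num at hz

theorem not_720 (hc : ¬ IsMulCommutative G) (h : Nat.card G = 720) : False := by
  haveI : Fact (Nat.Prime 5) := ⟨by norm_num⟩
  obtain ⟨o, ho, L⟩ := mem_options' hc (by rw [h]; norm_num) 5 144 (by rw [h]) (by norm_num)
  have key : ∀ o ∈ options' 5 144, o.1 = 36 ∧ (o.2.2 = 2 ∨ o.2.2 = 1) := by decide +kernel
  obtain ⟨hn, hc'⟩ := key o ho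
  rw [hn] at L
  obtain ⟨S⟩ := (inferInstance : Nonempty (Sylow 2 G))
  haveI : Fact (Nat.Prime 2) := ⟨Nat.prime_two⟩
  rcases hc' with e | e <;> rw [e] at L
  · obtain ⟨t, ht, h1, h2, h3, h4⟩ := exists_involution hc (by norm_num) L
    have h8 := eight_dvd_centralizer_of_sixteen hc S
      (by simpa using card_sylow_subgroup_eq (k := 4) (m := 45) (by rw [h]; norm_num) (by norm_num) S) ht
    have key2 : ∀ i ∈ (36 : ℕ).divisors, i ≠ 1 → 36 / i % 5 = 1 → factOk 720 i = true → i = 36 := by decide +kernel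
    rw [h] at h4
    have hi := key2 _ (Nat.mem_divisors.mpr ⟨h1, by norm_num⟩) h2 h3 h4
    have := (centralizer ({t} : Set G)).card_mul_index
    rw [hi, h] at this
    omega
  · obtain ⟨P⟩ := (inferInstance : Nonempty (Sylow 5 G))
    obtain ⟨hP, hC⟩ := L.2 P
    refine DegreeFour.false_of_seven_twenty hc h P hP ?_ (by simpa using hC)
    have h1 := PrimeGram.relIndex_mul_centralizer (P : Subgroup G)
    have h2 := card_normalizer_mul P
    rw [L.1, h] at h2
    rw [hC] at h1
    omega

theorem not_1008 (hc : ¬ IsMulCommutative G) (h : Nat.card G = 1008) : False := by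
  haveI : Fact (Nat.Prime 7) := ⟨by norm_num⟩
  haveI : Fact (Nat.Prime 2) := ⟨Nat.prime_two⟩
  obtain ⟨o, ho, L⟩ := mem_options' hc (by rw [h]; norm_num) 7 144 (by rw [h]) (by norm_num)
  obtain ⟨hn, hc'⟩ := (show ∀ o ∈ options' 7 144, o.1 = 36 ∧ o.2.2 = 2 by decide +kernel) o ho
  rw [hn, hc'] at L
  obtain ⟨S⟩ := (inferInstance : Nonempty (Sylow 2 G))
  obtain ⟨t, ht, h1, h2, h3, -⟩ := exists_involution hc (by norm_num) L
  have h8 := eight_dvd_centralizer_of_sixteen hc S
    (by simpa using card_sylow_subgroup_eq (k := 4) (m := 63) (by rw [h]; norm_num) (by norm_num) S) ht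
  have key2 : ∀ i ∈ (36 : ℕ).divisors, i ≠ 1 → 36 / i % 7 = 1 → i = 36 := by decide +kernel
  have hi := key2 _ (Nat.mem_divisors.mpr ⟨h1, by norm_num⟩) h2 h3
  have := (centralizer ({t} : Set G)).card_mul_index
  rw [hi, h] at this
  omega

theorem not_420 (hc : ¬ IsMulCommutative G) (h : Nat.card G = 420) : False := by
  haveI : Fact (Nat.Prime 7) := ⟨by norm_num⟩
  haveI : Fact (Nat.Prime 5) := ⟨by norm_num⟩
  haveI : Fact (Nat.Prime 3) := ⟨Nat.prime_three⟩
  haveI : Fact (Nat.Prime 2) := ⟨Nat.prime_two⟩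
  obtain ⟨a, ha, A⟩ := mem_options' hc (by rw [h]; norm_num) 3 140 (by rw [h]) (by norm_num)
  obtain ⟨b, hb, B⟩ := mem_options' hc (by rw [h]; norm_num) 5 84 (by rw [h]) (by norm_num)
  obtain ⟨d, hd, D⟩ := mem_options' hc (by rw [h]; norm_num) 7 60 (by rw [h]) (by norm_num)
  have key : ∀ a ∈ options' 3 140, ∀ b ∈ options' 5 84, ∀ d ∈ options' 7 60,
      ((5 ∣ a.2.2 ↔ 3 ∣ b.2.2)) → ((7 ∣ a.2.2 ↔ 3 ∣ d.2.2)) →
      a = (70, 2, 1) ∧ d = (15, 2, 2) ∧ (b = (21, 2, 2) ∨ b = (21, 4, 1)) := by decide +kernel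
  obtain ⟨rfl, rfl, hb'⟩ := key a ha b hb d hd
    ⟨fun e => dvd_of_dvd A B (by norm_num) e, fun e => dvd_of_dvd B A (by norm_num) e⟩
    ⟨fun e => dvd_of_dvd A D (by norm_num) e, fun e => dvd_of_dvd D A (by norm_num) e⟩
  rcases hb' with rfl | rfl
  · have := count_two_three_five_seven A B D (by norm_num) (by norm_num) (by norm_num)
    dsimp only at this
    omega
  · -- an element of order 4
    obtain ⟨P⟩ := (inferInstance : Nonempty (Sylow 5 G))
    obtain ⟨hP, hC⟩ := B.2 P
    set K := (P : Subgroup G) with hK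
    set N := normalizer (K : Set G)
    let f := K.normalizerMonoidHom
    have he : (centralizer (K : Set G)).relIndex N = 4 := by
      have h1 := PrimeGram.relIndex_mul_centralizer K
      have h2 := card_normalizer_mul P
      rw [B.1, h] at h2
      rw [hC] at h1
      have e1 : (centralizer (K : Set G)).relIndex N * (5 * 1) = Nat.card N := h1
      have e2 : Nat.card N * 21 = 420 := h2
      omega
    have hcyc : IsCyclic K := isCyclic_of_prime_card hP
    have hrange : Nat.card f.range = 4 := by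
      rw [← Nat.card_congr (QuotientGroup.quotientKerEquivRange f).toEquiv, normalizerMonoidHom_ker]
      exact he
    haveI : Fact (Nat.card K).Prime := ⟨by rw [hP]; norm_num⟩
    haveI : IsCyclic (MulAut K) := isCyclic_of_surjective (IsCyclic.mulAutMulEquiv K).symm (IsCyclic.mulAutMulEquiv K).symm.surjective
    obtain ⟨α, hα⟩ := IsCyclic.exists_generator (α := MulAut K)
    have hfull : f.range = ⊤ := (card_eq_iff_eq_top _).mp (by rw [hrange, IsCyclic.card_mulAut, hP]; rfl)
    obtain ⟨w, hw⟩ : α ∈ f.range := hfull ▸ mem_top α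
    have h4 : 4 ∣ orderOf (w : G) := by
      have h1 : orderOf α = 4 := by
        rw [orderOf_eq_card_of_forall_mem_zpowers hα, IsCyclic.card_mulAut, hP]; rfl
      rw [← h1, ← hw, Subgroup.orderOf_coe]
      exact orderOf_map_dvd f w
    obtain ⟨r, hr⟩ := h4
    have hr0 : 0 < r := by
      rcases Nat.eq_zero_or_pos r with e | e
      · exact absurd (by rw [hr, e]) (orderOf_pos (w : G)).ne'
      · exact e
    have hy : orderOf ((w : G) ^ r) = 4 := by
      rw [orderOf_pow, hr, Nat.gcd_mul_left_left, Nat.mul_div_cancel _ hr0]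
    obtain ⟨S, hS⟩ := (IsPGroup.of_card (n := 2) (show Nat.card (zpowers ((w : G) ^ r)) = 2 ^ 2 by
      rw [Nat.card_zpowers, hy]; norm_num)).exists_le_sylow
    have hS4 : Nat.card (S : Subgroup G) = 4 := by
      simpa using card_sylow_subgroup_eq (k := 2) (m := 105) (by rw [h]; norm_num) (by norm_num) S
    have heq := eq_of_le_of_card_ge hS (by rw [hS4, Nat.card_zpowers, hy])
    refine SmallSimple.sylow_minFac_not_isCyclic hc (p := 2) (by rw [h]; norm_num) S ?_
    rw [← heq]
    infer_instance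

theorem not_840 (hc : ¬ IsMulCommutative G) (h : Nat.card G = 840) : False := by
  classical
  haveI : Fact (Nat.Prime 7) := ⟨by norm_num⟩
  haveI : Fact (Nat.Prime 5) := ⟨by norm_num⟩
  haveI : Fact (Nat.Prime 3) := ⟨Nat.prime_three⟩
  haveI : Fact (Nat.Prime 2) := ⟨Nat.prime_two⟩
  obtain ⟨a, ha, A⟩ := mem_options' hc (by rw [h]; norm_num) 3 280 (by rw [h]) (by norm_num)
  obtain ⟨b, hb, B⟩ := mem_options' hc (by rw [h]; norm_num) 5 168 (by rw [h]) (by norm_num)
  obtain ⟨d, hd, D⟩ := mem_options' hc (by rw [h]; norm_num) 7 120 (by rw [h]) (by norm_num)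
  have key : ∀ a ∈ options' 3 280, ∀ b ∈ options' 5 168, ∀ d ∈ options' 7 120,
      ((5 ∣ a.2.2 ↔ 3 ∣ b.2.2)) → ((7 ∣ a.2.2 ↔ 3 ∣ d.2.2)) →
      a = (70, 2, 2) ∧ d = (15, 2, 4) ∧ (b = (21, 2, 4) ∨ b = (21, 4, 2)) := by decide +kernel
  obtain ⟨rfl, rfl, hb'⟩ := key a ha b hb d hd
    ⟨fun e => dvd_of_dvd A B (by norm_num) e, fun e => dvd_of_dvd B A (by norm_num) e⟩
    ⟨fun e => dvd_of_dvd A D (by norm_num) e, fun e => dvd_of_dvd D A (by norm_num) e⟩
  -- an involution centralizing a Sylow 3
  obtain ⟨P⟩ := (inferInstance : Nonempty (Sylow 3 G))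
  obtain ⟨⟨u, huC⟩, hu⟩ := exists_prime_orderOf_dvd_card' (G := centralizer ((P : Subgroup G) : Set G)) 2
    (by rw [(A.2 P).2]; norm_num)
  rw [orderOf_mk] at hu
  obtain ⟨S⟩ := (inferInstance : Nonempty (Sylow 2 G))
  have h8 := eight_dvd_centralizer hc S
    (by simpa using card_sylow_subgroup_eq (k := 3) (m := 105) (by rw [h]; norm_num) (by norm_num) S) hu
  set T := centralizer ({u} : Set G)
  have h3T : 3 ∣ Nat.card T := by
    have hle : (P : Subgroup G) ≤ T := fun x hx => mem_centralizer_singleton_iff.mpr (mem_centralizer_iff.mp huC x hx)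
    exact (A.2 P).1 ▸ card_dvd_of_le hle
  have hne : T.index ≠ 1 := by
    intro e
    have hZ : u ∈ center G := by
      rw [mem_center_iff]
      intro g
      exact (mem_centralizer_singleton_iff.mp ((index_eq_one.mp e).symm ▸ mem_top g : g ∈ T))
    rcases IsSimpleGroup.eq_bot_or_eq_top_of_normal (center G) inferInstance with hb' | ht'
    · rw [hb', mem_bot] at hZ
      rw [hZ, orderOf_one] at hu
      norm_num at hu
    · exact hc ⟨⟨fun x y => (mem_center_iff.mp (ht' ▸ mem_top y : y ∈ center G) x)⟩⟩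
  have hT := T.card_mul_index
  rw [h] at hT
  obtain ⟨r, hr⟩ := (by norm_num : Nat.Coprime 8 3).mul_dvd_of_dvd_of_dvd h8 h3T
  rw [hr, mul_assoc] at hT
  have hi : T.index ∣ 35 := ⟨r, by rw [mul_comm]; omega⟩
  have hf := factOk_index hc (fun e => hne (index_eq_one.mpr e) : T ≠ ⊤)
  rw [h] at hf
  have key2 : ∀ i ∈ (35 : ℕ).divisors, i ≠ 1 → factOk 840 i = true → i = 35 ∨ i = 7 := by decide +kernel
  rcases key2 _ (Nat.mem_divisors.mpr ⟨hi, by norm_num⟩) hne hf with e | e
  swap
  · obtain ⟨R⟩ := (inferInstance : Nonempty (Sylow 7 G))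
    have h1 := SmallSimple.two_mul_card_normalizer_dvd hc 7 (by norm_num) R (D.2 R).1 T (.inl e)
    have h2 := card_normalizer_mul R
    rw [D.1, h] at h2
    dsimp only at h2
    rw [show Nat.card (normalizer ((R : Subgroup G) : Set G)) = 56 by omega] at h1
    norm_num at h1
  -- the class of `u`
  have hclass : 35 ≤ Nat.card {g : G // ¬ (3 ∣ orderOf g ∨ 5 ∣ orderOf g ∨ 7 ∣ orderOf g)} := by
    let F : G ⧸ T → {g : G // ¬ (3 ∣ orderOf g ∨ 5 ∣ orderOf g ∨ 7 ∣ orderOf g)} := fun q =>
      ⟨q.out * u * q.out⁻¹, by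
        rw [show q.out * u * q.out⁻¹ = (MulAut.conj q.out).toMonoidHom u from rfl,
          orderOf_injective _ (MulAut.conj q.out).injective, hu]
        norm_num⟩
    have hF : Function.Injective F := by
      intro q q' e
      have e' : q.out * u * q.out⁻¹ = q'.out * u * q'.out⁻¹ := congrArg Subtype.val e
      rw [← q.out_eq', ← q'.out_eq', QuotientGroup.eq, mem_centralizer_singleton_iff]
      calc q.out⁻¹ * q'.out * u = q.out⁻¹ * (q'.out * u * q'.out⁻¹) * q'.out := by group
        _ = u * (q.out⁻¹ * q'.out) := by rw [← e']; group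
    have := Nat.card_le_card_of_injective F hF
    rwa [← Subgroup.index, e] at this
  rcases hb' with rfl | rfl
  all_goals
    have := count_two_three_five_seven A B D (by norm_num) (by norm_num) (by norm_num)
    dsimp only at this
    omega

/-- The six orders of non-abelian simple groups up to 1092. -/
theorem order_cases (hc : ¬ IsMulCommutative G) (h : Nat.card G ≤ 1092) :
    Nat.card G = 60 ∨ Nat.card G = 168 ∨ Nat.card G = 360 ∨ Nat.card G = 504 ∨ Nat.card G = 660 ∨
      Nat.card G = 1092 := by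
  haveI : Nontrivial G := IsSimpleGroup.toNontrivial
  have h1 : 1 < Nat.card G := Finite.one_lt_card
  -- no large prime
  have hsmall : ∀ q, q.Prime → q ∣ Nat.card G → q < 34 := by
    intro q hq hqG
    by_contra hge
    haveI : Fact q.Prime := ⟨hq⟩
    obtain ⟨m, hm⟩ := hqG
    have hm37 : 37 ≤ q := by
      by_contra hlt
      interval_cases q <;> norm_num at hq
    have hmlt : m < q := by
      by_contra hmq
      have := Nat.mul_le_mul hm37 (le_trans hm37 (not_lt.mp hmq))
      rw [← hm] at this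
      omega
    have hm0 : 0 < m := Nat.pos_of_ne_zero fun e => by rw [e, mul_zero] at hm; omega
    have hndvd : ¬ q ∣ m := fun e => absurd (Nat.le_of_dvd hm0 e) (not_le.mpr hmlt)
    have hd := card_sylow_dvd (k := 1) (by simpa using hm) hndvd (G := G) (p := q)
    have hmod : Nat.card (Sylow q G) % q = 1 := card_sylow_mod
    have hgt := one_lt_card_sylow hc (Dvd.intro _ hm.symm) (p := q)
    have hle := Nat.le_of_dvd hm0 hd
    rw [Nat.mod_eq_of_lt (by omega)] at hmod
    omega
  have hne2 : Nat.card G % 4 ≠ 2 := by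
    intro e
    obtain ⟨m, hm⟩ : ∃ m, Nat.card G = 2 * m := ⟨Nat.card G / 2, by omega⟩
    by_cases hm1 : m = 1
    · refine hc (IsMulCommutative.mk ⟨fun a b => ?_⟩)
      haveI : Fact (Nat.Prime 2) := ⟨Nat.prime_two⟩
      haveI := isCyclic_of_prime_card (α := G) (p := 2) (by rw [hm, hm1])
      exact IsCyclic.commGroup.mul_comm a b
    · exact not_isSimpleGroup_of_two_mul_odd hm ⟨m / 2, by omega⟩ (by omega) inferInstance
  have hsmooth : primesList.prod ^ 11 % Nat.card G = 0 := by
    refine Nat.mod_eq_zero_of_dvd ((Nat.dvd_iff_prime_pow_dvd_dvd _ _).mpr fun q a hq hqa => ?_)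
    rcases Nat.eq_zero_or_pos a with rfl | ha
    · simp
    have hqd : q ∣ Nat.card G := (dvd_pow_self q ha.ne').trans hqa
    have hmem := mem_primesList q (hsmall q hq hqd) hq
    have ha11 : a ≤ 11 := by
      by_contra hgt
      have h2 : 2 ^ 12 ≤ q ^ a := le_trans (Nat.pow_le_pow_left hq.two_le 12) (Nat.pow_le_pow_right hq.pos (by omega))
      have := Nat.le_of_dvd (by omega) hqa
      omega
    exact (pow_dvd_pow q ha11).trans (pow_dvd_pow_of_dvd (List.dvd_prod hmem) 11)
  have hthree : ¬ (primesList.filter fun p => decide (Nat.card G % p = 0)).length ≤ 2 := by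
    intro hlen
    set l := primesList.filter fun p => decide (Nat.card G % p = 0) with hl
    have hmem : ∀ r, r.Prime → r ∣ Nat.card G → r ∈ l := fun r hr hrd =>
      List.mem_filter.mpr ⟨mem_primesList r (hsmall r hr hrd) hr, by simpa using Nat.mod_eq_zero_of_dvd hrd⟩
    have hprime : ∀ r ∈ l, r.Prime := fun r hr => primesList_prime r (List.mem_filter.mp hr).1
    have hsol : Group.IsSolvable G := by
      match hl' : l, hlen with
      | [], _ =>
        obtain ⟨r, hr, hrd⟩ := Nat.exists_prime_and_dvd h1.ne'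
        have := hmem r hr hrd
        rw [hl'] at this
        exact absurd this List.not_mem_nil
      | [p], _ =>
        exact CfsgLib.Chars.Apps.isSolvable_of_primeFactors_subset G (hprime p (by rw [hl']; simp)) (hprime p (by rw [hl']; simp))
          fun r hr hrd => by have := hmem r hr hrd; rw [hl'] at this; simp at this; exact .inl this
      | [p, q], _ =>
        exact CfsgLib.Chars.Apps.isSolvable_of_primeFactors_subset G (hprime p (by rw [hl']; simp)) (hprime q (by rw [hl']; simp))
          fun r hr hrd => by have := hmem r hr hrd; rw [hl'] at this; simpa using this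
      | _ :: _ :: _ :: _, hlen => simp at hlen
    have hlt := Group.IsSolvable.commutator_lt_top_of_nontrivial G
    rcases IsSimpleGroup.eq_bot_or_eq_top_of_normal (_root_.commutator G) inferInstance with e | e
    · refine hc ⟨⟨fun a b => ?_⟩⟩
      open scoped commutatorElement in
      have hab : ⁅a, b⁆ ∈ _root_.commutator G := Subgroup.commutator_mem_commutator (mem_top a) (mem_top b)
      rw [e, mem_bot, commutatorElement_eq_one_iff_mul_comm] at hab
      exact hab
    · exact hlt.ne e
  have hs := List.all_eq_true.mp sieve (Nat.card G) (List.mem_range.mpr (by omega))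
  simp only [Bool.or_eq_true, decide_eq_true_eq, Bool.not_eq_true', decide_eq_false_iff_not, List.contains_iff_mem,
    List.any_eq_true, Bool.and_eq_true] at hs
  rcases hs with ((((h0 | h0) | h0) | h0) | h0) | ⟨p, hp, hpd, hdead⟩
  · omega
  · exact absurd h0 hne2
  · exact absurd hsmooth h0
  · exact absurd h0 hthree
  · simp only [specialOrders, List.mem_cons, List.not_mem_nil, or_false] at h0
    rcases h0 with e | e | e | e | e | e | e | e | e | e | e
    iterate 6 omega
    · exact (not_420 hc e).elim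
    · exact (not_720 hc e).elim
    · exact (not_840 hc e).elim
    · exact (not_1008 hc e).elim
    · exact (not_1080 hc e).elim
  · exfalso
    haveI : Fact p.Prime := ⟨primesList_prime p hp⟩
    have key : ((List.range 1093).all fun N => primesList.all fun p => !decide (N % p = 0) || decide (N = 0) ||
        (decide (expOf p N ≠ 0) && decide (N % p ^ expOf p N = 0) && decide (N / p ^ expOf p N % p ≠ 0))) = true := by
      decide +kernel
    have hk := List.all_eq_true.mp (List.all_eq_true.mp key (Nat.card G) (List.mem_range.mpr (by omega))) p hp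
    simp only [Bool.or_eq_true, Bool.and_eq_true, decide_eq_true_eq, Bool.not_eq_true', decide_eq_false_iff_not] at hk
    rcases hk with (hk | hk) | ⟨⟨hk0, hkd⟩, hkn⟩
    · exact hk hpd
    · omega
    · rw [not_deadPrime hc (by omega) p (expOf p (Nat.card G))
        (Nat.mul_div_cancel' (Nat.dvd_of_mod_eq_zero hkd)).symm
        (fun e => hkn (Nat.mod_eq_zero_of_dvd e)) hk0] at hdead
      exact Bool.noConfusion hdead

end

end CfsgLib.Sieve.Order1092
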