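import Cfsg.Agent.Sieve.Card7920
import Mathlib

/-!
# A group of order `7920` with disconnected prime graph is simple
-/

set_option autoImplicit false
set_option linter.style.haveILetI false

namespace CfsgLib.Card7920

open CfsgLib.SylowToolkit Subgroup MulAction
open scoped Pointwise

universe u

theorem exists_orderOf_mul {G : Type*} [Group G] [Finite G] {p q : ℕ} [Fact p.Prime] [Fact q.Prime]
    (hpq : p ≠ q) (P : Sylow p G) (hP : Nat.card (P : Subgroup G) = p)
    (hq : q ∣ Nat.card (centralizer ((P : Subgroup G) : Set G))) : ∃ g : G, orderOf g = p * q := by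
  obtain ⟨⟨c, hc⟩, hcq⟩ := exists_prime_orderOf_dvd_card' (G := centralizer ((P : Subgroup G) : Set G)) q hq
  rw [orderOf_mk] at hcq
  obtain ⟨⟨d, hd⟩, hdp⟩ := exists_prime_orderOf_dvd_card' (G := (P : Subgroup G)) p (by rw [hP])
  rw [orderOf_mk] at hdp
  refine ⟨d * c, ?_⟩
  rw [Commute.orderOf_mul_eq_mul_orderOf_of_coprime (mem_centralizer_iff.mp hc d hd)
    (by rw [hdp, hcq]; exact (Nat.coprime_primes Fact.out Fact.out).mpr hpq), hdp, hcq]

theorem main {G : Type u} [Group G] [Finite G] (hord : Nat.card G = 7920) (A : Set ℕ)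
    (ha : ∃ a ∈ A, a.Prime ∧ a ∣ Nat.card G) (hb : ∃ b ∉ A, b.Prime ∧ b ∣ Nat.card G)
    (hA : ∀ a ∈ A, ∀ b ∉ A, a.Prime → b.Prime → a ∣ Nat.card G → b ∣ Nat.card G → ¬ ∃ g : G, orderOf g = a * b) :
    IsSimpleGroup G := by
  haveI h11' : Fact (Nat.Prime 11) := ⟨by norm_num⟩
  haveI h5' : Fact (Nat.Prime 5) := ⟨by norm_num⟩
  haveI : Nontrivial G := Finite.one_lt_card_iff_nontrivial.mp (by omega)
  have hiff : ∀ a b : ℕ, a.Prime → b.Prime → a ∣ 7920 → b ∣ 7920 → (∃ g : G, orderOf g = a * b) → (a ∈ A ↔ b ∈ A) := by
    intro a b hap hbp had hbd hg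
    rw [← hord] at had hbd
    constructor
    · intro h; by_contra h'; exact hA a h b h' hap hbp had hbd hg
    · intro h; by_contra h'; exact hA b h a h' hbp hap hbd had (by rwa [mul_comm])
  have hprimes : ∀ q : ℕ, q.Prime → q ∣ 7920 → q = 2 ∨ q = 3 ∨ q = 5 ∨ q = 11 := by
    intro q hq hd
    have h1 : q ∣ 2 ^ 4 * (3 ^ 2 * (5 * 11)) := by norm_num; exact hd
    rcases hq.dvd_mul.mp h1 with h | h
    · exact .inl ((Nat.prime_dvd_prime_iff_eq hq Nat.prime_two).mp (hq.dvd_of_dvd_pow h))
    rcases hq.dvd_mul.mp h with h | h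
    · exact .inr (.inl ((Nat.prime_dvd_prime_iff_eq hq Nat.prime_three).mp (hq.dvd_of_dvd_pow h)))
    rcases hq.dvd_mul.mp h with h | h
    · exact .inr (.inr (.inl ((Nat.prime_dvd_prime_iff_eq hq (by norm_num)).mp h)))
    · exact .inr (.inr (.inr ((Nat.prime_dvd_prime_iff_eq hq (by norm_num)).mp h)))
  obtain ⟨P⟩ := (inferInstance : Nonempty (Sylow 11 G))
  have hP : Nat.card (P : Subgroup G) = 11 := by
    rw [card_sylow_subgroup_eq (k := 1) (m := 720) (by rw [hord]; norm_num) (by norm_num) P, pow_one]
  have hmem := card_sylow_mem_candidates (p := 11) (G := G) (k := 1) (m := 720) (by rw [hord]; norm_num) (by norm_num)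
  have key : ∀ n ∈ (720 : ℕ).divisors.filter (fun n => n % 11 = 1), n = 1 ∨ n = 12 ∨ n = 45 ∨ n = 144 := by decide +kernel
  set N := normalizer ((P : Subgroup G) : Set G) with hN
  set C := centralizer ((P : Subgroup G) : Set G) with hC
  have hmul : Nat.card N * Nat.card (Sylow 11 G) = 7920 := hord ▸ card_normalizer_mul P
  have hr := relIndex_centralizer_dvd_sub_one P hP
  have hCN : C ≤ N := centralizer_le_normalizer _
  have hmulC := relIndex_mul_relIndex (⊥ : Subgroup G) C N bot_le hCN
  rw [relIndex_bot_left, relIndex_bot_left] at hmulC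
  have hcong3 : ∀ (p : ℕ), (p = 11 ∨ p = 5) → ∀ a b, 3 ^ a ∣ 7920 → b ≤ a → 3 ^ b % p = 3 ^ a % p → b = a := by
    intro p hp a b ha hb e
    have ha2 : a ≤ 2 := by
      by_contra hgt
      have h1 := (pow_dvd_pow 3 (show 3 ≤ a by omega)).trans ha
      norm_num at h1
    interval_cases a <;> interval_cases b <;> rcases hp with rfl | rfl <;> first | rfl | norm_num at e
  rcases key _ hmem with hn | hn | hn | hn
  case inr.inr.inl =>
    exact ⟨fun K _ => no_normal (M := G) (j := 4) le_rfl (hord.trans (by norm_num)) hn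
      (fun i hi L _ _ hL => no_fortyfive i (by omega) L hL) K⟩
  case inr.inr.inr =>
    -- `|N(P)| = 55`
    have hN55 : Nat.card N = 55 := by rw [hn] at hmul; omega
    have hcong : ∀ q, q = 2 ∨ q = 3 ∨ q = 5 → ∀ a b, q ^ a ∣ 7920 → b ≤ a → q ^ b % 11 = q ^ a % 11 → b = a := by
      intro q hq a b ha hb e
      have ha4 : a ≤ 4 := by
        by_contra hgt
        have h1 := (pow_dvd_pow q (show 5 ≤ a by omega)).trans ha
        rcases hq with rfl | rfl | rfl <;> norm_num at h1
      interval_cases a <;> interval_cases b <;> rcases hq with rfl | rfl | rfl <;>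
        first | rfl | norm_num at e | norm_num at ha
    have hC11 : Nat.card C = 11 := by
      have h1 := card_dvd_of_le hCN
      rw [hN55] at h1
      have h2 : 11 ∣ Nat.card C := by
        have hcyc : IsCyclic (P : Subgroup G) := isCyclic_of_prime_card hP
        have hle : (P : Subgroup G) ≤ C := fun a ha =>
          mem_centralizer_iff.mpr fun b hb => congrArg Subtype.val (hcyc.commGroup.mul_comm ⟨b, hb⟩ ⟨a, ha⟩)
        exact hP ▸ card_dvd_of_le hle
      have key' : ∀ n ∈ (55 : ℕ).divisors, 11 ∣ n → n = 11 ∨ n = 55 := by decide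
      refine (key' _ (Nat.mem_divisors.mpr ⟨h1, by norm_num⟩) h2).resolve_right fun h55 => ?_
      have hle : N ≤ C := (eq_of_le_of_card_ge hCN (by rw [h55, hN55])).ge
      have hK := MonoidHom.not_dvd_card_ker_transferSylow P hle
      have hK2 := (MonoidHom.ker_transferSylow_isComplement' P hle).card_mul_card
      rw [hord, hP] at hK2
      have h3 := dvd_centralizer (q := 3) P hP (MonoidHom.transferSylow P hle).ker hK
        (by rw [show Nat.card (MonoidHom.transferSylow P hle).ker = 720 by omega]; norm_num)
        (fun a b ha hb e => hcong3 11 (.inl rfl) a b (ha.trans (hord ▸ card_subgroup_dvd_card _)) hb e)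
      rw [← hC, h55] at h3
      norm_num at h3
    refine ⟨fun K hK => ?_⟩
    by_contra hcon
    push Not at hcon
    have hKd : Nat.card K ∣ 7920 := hord ▸ card_subgroup_dvd_card K
    by_cases h11 : 11 ∣ Nat.card K
    · -- all 1440 elements of order 11 lie in `K`
      obtain ⟨⟨d, hdK⟩, hd⟩ := exists_prime_orderOf_dvd_card' (G := K) 11 h11
      rw [orderOf_mk] at hd
      obtain ⟨Q, hQ⟩ := (IsPGroup.of_card (n := 1) (show Nat.card (zpowers d) = 11 ^ 1 by
        rw [Nat.card_zpowers, hd, pow_one])).exists_le_sylow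
      have hQK : (Q : Subgroup G) ≤ K := by
        rw [← eq_of_le_of_card_ge hQ (by rw [card_sylow_subgroup_congr Q P, hP, Nat.card_zpowers, hd])]
        exact zpowers_le.mpr hdK
      have hall : ∀ x : G, orderOf x = 11 → x ∈ K := by
        intro x hx
        obtain ⟨R, hR⟩ := (IsPGroup.of_card (n := 1) (show Nat.card (zpowers x) = 11 ^ 1 by
          rw [Nat.card_zpowers, hx, pow_one])).exists_le_sylow
        obtain ⟨g, hg⟩ := exists_smul_eq G Q R
        have hxR := hR (mem_zpowers x)
        rw [← hg, Sylow.coe_subgroup_smul] at hxR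
        obtain ⟨y, hy, rfl⟩ := hxR
        exact hK.conj_mem y (hQK hy) g
      have e1 := card_orderOf_eq_prime (G := G) (p := 11) (m := 720) (by rw [hord]) (by norm_num)
      rw [hn] at e1
      have h1440 := Nat.card_le_card_of_injective (fun x : {x : G // orderOf x = 11} => (⟨x.1, hall x.1 x.2⟩ : K))
        fun a b e => Subtype.ext (congrArg (fun t : K => (t : G)) e)
      have hK1584 : Nat.card K = 1584 := by
        have hne : Nat.card K ≠ 7920 := fun e => hcon.2 (eq_top_of_card_eq K (by rw [e, hord]))
        have key' : ∀ n ∈ (7920 : ℕ).divisors, 11 ∣ n → 1440 ≤ n → n ≠ 7920 → n = 1584 ∨ n = 1980 ∨ n = 2640 ∨ n = 3960 := by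
          decide +kernel
        have hnK : Nat.card (Sylow 11 K) = 144 := by
          obtain ⟨m, hm⟩ := h11
          have hm720 : m ∣ 720 := Nat.dvd_of_mul_dvd_mul_left (by norm_num : 0 < 11) (by rw [← hm]; exact hKd)
          have hm11 : ¬ 11 ∣ m := fun h' => absurd (h'.trans hm720) (by norm_num)
          have e2 := card_orderOf_eq_prime (G := K) (p := 11) hm hm11
          have e3 : Nat.card {x : K // orderOf x = 11} = Nat.card {x : G // orderOf x = 11} := Nat.card_congr
            { toFun := fun x => ⟨(x.1 : G), by rw [orderOf_coe]; exact x.2⟩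
              invFun := fun x => ⟨⟨x.1, hall x.1 x.2⟩, by rw [orderOf_mk]; exact x.2⟩
              left_inv := fun x => rfl
              right_inv := fun x => rfl }
          omega
        obtain ⟨R⟩ := (inferInstance : Nonempty (Sylow 11 K))
        have hmulK := card_normalizer_mul R
        rw [hnK] at hmulK
        rcases key' _ (Nat.mem_divisors.mpr ⟨hKd, by norm_num⟩) h11 (by omega) hne with e | e | e | e
        · exact e
        all_goals
          exfalso
          have h144 : 144 ∣ Nat.card K := ⟨_, by rw [mul_comm]; exact hmulK.symm⟩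
          rw [e] at h144
          norm_num at h144
      -- Burnside inside `K`
      set R : Sylow 11 K := Q.subtype hQK
      have hR : Nat.card (R : Subgroup K) = 11 := by
        rw [Sylow.coe_subtype, Nat.card_congr (subgroupOfEquivOfLe hQK).toEquiv, card_sylow_subgroup_congr Q P, hP]
      have hnR : Nat.card (Sylow 11 K) = 144 := by
        have e2 := card_orderOf_eq_prime (G := K) (p := 11) (m := 144) (hK1584.trans (by norm_num)) (by norm_num)
        have e3 : Nat.card {x : K // orderOf x = 11} = Nat.card {x : G // orderOf x = 11} := Nat.card_congr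
          { toFun := fun x => ⟨(x.1 : G), by rw [orderOf_coe]; exact x.2⟩
            invFun := fun x => ⟨⟨x.1, hall x.1 x.2⟩, by rw [orderOf_mk]; exact x.2⟩
            left_inv := fun x => rfl
            right_inv := fun x => rfl }
        omega
      have hNR : Nat.card (normalizer ((R : Subgroup K) : Set K)) = 11 := by
        have := card_normalizer_mul R
        rw [hnR, hK1584] at this
        omega
      have hNReq : normalizer ((R : Subgroup K) : Set K) = (R : Subgroup K) :=
        (eq_of_le_of_card_ge le_normalizer (by rw [hNR, hR])).symm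
      haveI : IsCyclic (R : Subgroup K) := isCyclic_of_prime_card hR
      have hle : normalizer ((R : Subgroup K) : Set K) ≤ centralizer ((R : Subgroup K) : Set K) := by
        rw [hNReq]
        exact fun a ha => mem_centralizer_iff.mpr fun b hb =>
          congrArg Subtype.val (IsCyclic.commGroup.mul_comm (⟨b, hb⟩ : (R : Subgroup K)) ⟨a, ha⟩)
      have hK' := MonoidHom.not_dvd_card_ker_transferSylow R hle
      have hK2 := (MonoidHom.ker_transferSylow_isComplement' R hle).card_mul_card
      rw [hK1584, hR] at hK2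
      have h3 := dvd_centralizer (q := 3) R hR (MonoidHom.transferSylow R hle).ker hK'
        (by rw [show Nat.card (MonoidHom.transferSylow R hle).ker = 144 by omega]; norm_num)
        (fun a b ha hb e => hcong3 11 (.inl rfl) a b
          (ha.trans ((card_subgroup_dvd_card _).trans hKd)) hb e)
      have h4 := h3.trans (card_dvd_of_le (centralizer_le_normalizer _))
      rw [hNR] at h4
      norm_num at h4
    · obtain ⟨q, hq, hqK⟩ := Nat.exists_prime_and_dvd (fun e => hcon.1 (card_eq_one.mp e) : Nat.card K ≠ 1)
      haveI : Fact q.Prime := ⟨hq⟩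
      have hq' : q = 2 ∨ q = 3 ∨ q = 5 := by
        rcases hprimes q hq (hqK.trans hKd) with h | h | h | h
        · exact .inl h
        · exact .inr (.inl h)
        · exact .inr (.inr h)
        · exact absurd (h ▸ hqK) h11
      have h3 := dvd_centralizer (q := q) P hP K h11 hqK (fun a b ha hb e => hcong q hq' a b (ha.trans hKd) hb e)
      rw [← hC, hC11] at h3
      rcases hq' with rfl | rfl | rfl <;> norm_num at h3
  all_goals
    exfalso
    have h66 : Nat.card C = 66 ∨ Nat.card C = 132 ∨ Nat.card C = 330 ∨ Nat.card C = 660 ∨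
        Nat.card C = 792 ∨ Nat.card C = 1584 ∨ Nat.card C = 3960 ∨ Nat.card C = 7920 := by
      have hr' : C.relIndex N ∣ 10 := hr
      have key' : ∀ r ∈ (10 : ℕ).divisors, r = 1 ∨ r = 2 ∨ r = 5 ∨ r = 10 := by decide
      rw [hn] at hmul
      rcases key' _ (Nat.mem_divisors.mpr ⟨hr', by norm_num⟩) with e | e | e | e <;> rw [e] at hmulC <;> omega
    have h2 : 2 ∣ Nat.card C := by omega
    have h3 : 3 ∣ Nat.card C := by omega
    have e2 := hiff 11 2 (by norm_num) Nat.prime_two (by norm_num) (by norm_num) (exists_orderOf_mul (by norm_num) P hP h2)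
    have e3 := hiff 11 3 (by norm_num) Nat.prime_three (by norm_num) (by norm_num) (exists_orderOf_mul (by norm_num) P hP h3)
    have e5 : (5 ∈ A ↔ 11 ∈ A) := by
      by_cases h5 : 5 ∣ Nat.card C
      · exact (hiff 11 5 (by norm_num) (by norm_num) (by norm_num) (by norm_num) (exists_orderOf_mul (by norm_num) P hP h5)).symm
      -- an element of order 5 of `N` acts on `C`
      obtain ⟨F⟩ := (inferInstance : Nonempty (Sylow 5 N))
      have h5N : 5 ∣ Nat.card N := by
        rw [hn] at hmul
        omega
      have hF : Nat.card (F : Subgroup N) = 5 := by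
        obtain ⟨m, hm⟩ := h5N
        refine (card_sylow_subgroup_eq (k := 1) (m := m) (by rw [pow_one]; exact hm) ?_ F).trans (pow_one 5)
        intro h'
        have : 25 ∣ Nat.card N := hm ▸ Nat.mul_dvd_mul_left 5 h'
        exact absurd (this.trans (hord ▸ card_subgroup_dvd_card N)) (by norm_num)
      haveI : (C.subgroupOf N).Normal := (normal_subgroupOf_iff_le_normalizer hCN).mpr (by
        intro g hg
        rw [mem_normalizer_iff]
        intro x
        rw [hC, mem_centralizer_iff, mem_centralizer_iff]
        have hN' := mem_normalizer_iff.mp hg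
        constructor
        · intro hx y hy
          have hy' : g⁻¹ * y * g ∈ (P : Subgroup G) := (hN' _).mpr (by rw [show g * (g⁻¹ * y * g) * g⁻¹ = y by group]; exact hy)
          have h1 := hx _ hy'
          calc y * (g * x * g⁻¹) = g * ((g⁻¹ * y * g) * x) * g⁻¹ := by group
            _ = g * x * g⁻¹ * y := by rw [h1]; group
        · intro hx y hy
          have h1 := hx _ ((hN' y).mp hy)
          calc y * x = g⁻¹ * ((g * y * g⁻¹) * (g * x * g⁻¹)) * g := by group
            _ = x * y := by rw [h1]; group)
      have hcd : Nat.card (C.subgroupOf N) = Nat.card C := Nat.card_congr (subgroupOfEquivOfLe hCN).toEquiv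
      have h := dvd_centralizer (q := 3) F hF (C.subgroupOf N) (by rw [hcd]; exact h5) (by rw [hcd]; exact h3)
        (fun a b ha hb e => hcong3 5 (.inr rfl) a b (ha.trans ((card_subgroup_dvd_card _).trans (hord ▸ card_subgroup_dvd_card N))) hb e)
      obtain ⟨g, hg⟩ := exists_orderOf_mul (q := 3) (by norm_num) F hF h
      have := hiff 5 3 (by norm_num) Nat.prime_three (by norm_num) (by norm_num) ⟨g, by rw [orderOf_coe]; exact hg⟩
      exact this.trans e3.symm
    obtain ⟨a, haA, hap, had⟩ := ha
    obtain ⟨b, hbA, hbp, hbd⟩ := hb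
    rw [hord] at had hbd
    rcases hprimes a hap had with rfl | rfl | rfl | rfl <;> rcases hprimes b hbp hbd with rfl | rfl | rfl | rfl <;> tauto

end CfsgLib.Card7920
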