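import Cfsg.Agent.SylowToolkit.Counting
import Cfsg.Agent.SylowToolkit.Transfer
import Cfsg.Agent.SylowToolkit.PermRep
import Cfsg.Agent.Transfer.ThompsonTransfer
import Cfsg.Agent.Blocks.PrimeGram.BlockEquation
import Mathlib

/-!
# Sieving simple group orders by Sylow subgroups of prime order

Local data of a Sylow subgroup of prime order, relations between two primes, and a computable test
for the degree equation of the principal block.
-/

set_option autoImplicit false
set_option linter.style.haveILetI false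

namespace CfsgLib.Sieve.PrimeLocal

open CfsgLib.SylowToolkit Subgroup

/-- The Sylow `p`-subgroups have order `p`, are `n` in number and have centralizers of order `p * c`. -/
def HasLocal (G : Type*) [Group G] (p n c : ℕ) : Prop :=
  Nat.card (Sylow p G) = n ∧ ∀ P : Sylow p G, Nat.card (P : Subgroup G) = p ∧
    Nat.card (centralizer ((P : Subgroup G) : Set G)) = p * c

/-- Possible sums of `n` signed degrees from `qs` with sum of squares at most `b`. -/
def reach (qs : List (ℤ × ℕ)) : ℕ → ℕ → List ℤ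
  | 0, _ => [0]
  | n + 1, b => qs.flatMap fun q =>
      if q.2 * q.2 ≤ b then (reach qs n (b - q.2 * q.2)).map (fun t => q.1 * q.2 + t) else []

theorem sum_mem_reach (qs : List (ℤ × ℕ)) : ∀ (l : List (ℤ × ℕ)) (b : ℕ), (∀ q ∈ l, q ∈ qs) →
    (l.map fun q => q.2 ^ 2).sum ≤ b → (l.map fun q => q.1 * (q.2 : ℤ)).sum ∈ reach qs l.length b
  | [], _, _, _ => by simp [reach]
  | q :: l, b, h, hb => by
      simp only [List.map_cons, List.sum_cons] at hb ⊢
      simp only [List.length_cons, reach, List.mem_flatMap]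
      refine ⟨q, h q List.mem_cons_self, ?_⟩
      rw [if_pos (by rw [sq] at hb; omega), List.mem_map]
      exact ⟨_, sum_mem_reach qs l _ (fun r hr => h r (List.mem_cons_of_mem _ hr))
        (by rw [sq] at hb; omega), rfl⟩

/-- The candidates for a non-exceptional degree with its sign. -/
def signedDegrees (d p : ℕ) : List (ℤ × ℕ) :=
  ((List.range 300).filter fun a => decide (2 ≤ a) && decide (d % a = 0)).flatMap fun (a : ℕ) =>
    ([1, -1] : List ℤ).filterMap fun s => if ((a : ℤ) - s) % p = 0 then some (s, a) else none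

/-- The degree equation of the principal block has a solution. -/
def blockFeasible (d p e : ℕ) : Bool :=
  ([1, -1] : List ℤ).any fun ε => (List.range 300).any fun B =>
    decide (2 ≤ B) && decide (d % B = 0) && decide (((B : ℤ) - ε * e) % p = 0) &&
      decide ((p - 1) / e * B * B + 1 ≤ d) &&
        (reach (signedDegrees d p) (e - 1) (d - ((p - 1) / e * B * B + 1))).contains (ε * B - 1)

/-- The possible values `(n, e, c)` of `n_p`, `|N : C|` and `|C| / p` in a simple group of order `p * m`. -/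
def options (p m : ℕ) : List (ℕ × ℕ × ℕ) :=
  ((List.range (m / p + 1)).filter fun j =>
      decide (1 ≤ j) && decide (m % (p * j + 1) = 0) &&
        (decide (40 ≤ p * j + 1) || decide ((p * j + 1).factorial % (2 * (p * m)) = 0))).flatMap fun j =>
    (List.range p).filterMap fun e =>
      if 2 ≤ e ∧ (p - 1) % e = 0 ∧ m / (p * j + 1) % e = 0 ∧ (p ≤ e + 1 ∨ blockFeasible (p * m) p e = true)
      then some (p * j + 1, e, m / (p * j + 1) / e) else none

section
variable {G : Type*} [Group G] [Finite G] [IsSimpleGroup G]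

theorem blockFeasible_of_exists (hG : ¬ IsMulCommutative G) (hd : Nat.card G < 90000) (p : ℕ) [hp : Fact p.Prime]
    (P : Sylow p G) (hP : Nat.card (P : Subgroup G) = p) (e : ℕ) (hpe : e + 1 < p)
    (he : (centralizer ((P : Subgroup G) : Set G)).relIndex (normalizer ((P : Subgroup G) : Set G)) = e) :
    blockFeasible (Nat.card G) p e = true := by
  obtain ⟨ε, B, l, hl, hε, hB2, hBd, hBc, hls, heq, hsum⟩ := PrimeGram.block_degree_equation hG p P hP e hpe he
  have he0 : e ≠ 0 := by
    rw [← he]; exact Subgroup.index_ne_zero_of_finite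
  have ht : 1 ≤ (p - 1) / e := (Nat.one_le_div_iff (by omega)).mpr (by omega)
  have hBB : B * B ≤ (p - 1) / e * B ^ 2 := by rw [sq]; exact Nat.le_mul_of_pos_left _ ht
  have hB300 : B < 300 := by
    by_contra h
    have := Nat.mul_le_mul (not_lt.mp h) (not_lt.mp h)
    omega
  simp only [blockFeasible, List.any_eq_true, Bool.and_eq_true, decide_eq_true_eq, List.contains_iff_mem]
  refine ⟨ε, by simpa using hε, B, List.mem_range.mpr hB300, ⟨⟨⟨hB2, ?_⟩, ?_⟩, ?_⟩, ?_⟩
  · exact Nat.mod_eq_zero_of_dvd hBd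
  · exact Int.emod_eq_emod_iff_emod_sub_eq_zero.mp hBc
  · rw [mul_assoc, ← sq]; omega
  · rw [show ε * (B : ℤ) - 1 = (l.map fun q => q.1 * (q.2 : ℤ)).sum by omega, ← hl]
    refine sum_mem_reach _ l _ (fun q hq => ?_) (by rw [mul_assoc ((p - 1) / e), ← sq]; omega)
    obtain ⟨hs, h2, hdv, hc⟩ := hls q hq
    have hq2 : q.2 ^ 2 ≤ (l.map fun r => r.2 ^ 2).sum :=
      List.le_sum_of_mem (List.mem_map_of_mem hq)
    simp only [signedDegrees, List.mem_flatMap, List.mem_filterMap, List.mem_filter, List.mem_range,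
      Bool.and_eq_true, decide_eq_true_eq]
    refine ⟨q.2, ⟨?_, h2, Nat.mod_eq_zero_of_dvd hdv⟩, q.1, by simpa using hs, ?_⟩
    · by_contra h
      have := Nat.mul_le_mul (not_lt.mp h) (not_lt.mp h)
      rw [sq] at hq2
      omega
    · rw [if_pos (Int.emod_eq_emod_iff_emod_sub_eq_zero.mp hc)]

theorem exists_option (hG : ¬ IsMulCommutative G) (hd : Nat.card G < 90000) (p m : ℕ) [hp : Fact p.Prime]
    (hcard : Nat.card G = p * m) (hm : ¬ p ∣ m) :
    ∃ o ∈ options p m, HasLocal G p o.1 o.2.2 := by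
  obtain ⟨P⟩ := (inferInstance : Nonempty (Sylow p G))
  have hP : ∀ R : Sylow p G, Nat.card (R : Subgroup G) = p := fun R => by
    simpa using card_sylow_subgroup_eq (k := 1) (by simpa using hcard) hm R
  have hdvd : p ∣ Nat.card G := hcard ▸ dvd_mul_right p m
  set n := Nat.card (Sylow p G) with hn
  have hnm : n ∣ m := card_sylow_dvd (k := 1) (by simpa using hcard) hm
  have hmod : n % p = 1 := card_sylow_mod
  have h1 : 1 < n := one_lt_card_sylow hG hdvd
  obtain ⟨j, hj⟩ : ∃ j, n = p * j + 1 := ⟨n / p, by have := Nat.div_add_mod n p; omega⟩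
  set e := (centralizer ((P : Subgroup G) : Set G)).relIndex (normalizer ((P : Subgroup G) : Set G)) with he
  set N := Nat.card (normalizer ((P : Subgroup G) : Set G)) with hN
  set C := Nat.card (centralizer ((P : Subgroup G) : Set G)) with hC
  have heC : e * C = N := PrimeGram.relIndex_mul_centralizer (P : Subgroup G)
  have hNn : N * n = p * m := hcard ▸ card_normalizer_mul P
  have hPC : (P : Subgroup G) ≤ centralizer ((P : Subgroup G) : Set G) := by
    have hcyc : IsCyclic (P : Subgroup G) := isCyclic_of_prime_card (hP P)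
    intro x hx
    rw [mem_centralizer_iff]
    intro y hy
    exact congrArg Subtype.val (hcyc.commGroup.mul_comm ⟨y, hy⟩ ⟨x, hx⟩)
  obtain ⟨c, hc⟩ : p ∣ C := by
    have := card_dvd_of_le hPC
    rwa [hP P] at this
  have hedvd : e ∣ p - 1 := relIndex_centralizer_dvd_sub_one P (hP P)
  have he2 : 2 ≤ e := by
    rcases Nat.lt_or_ge e 2 with h | h
    · exfalso
      have h0 : e ≠ 0 := Subgroup.index_ne_zero_of_finite
      exact not_normalizer_le_centralizer hG hdvd P (relIndex_eq_one.mp (by omega))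
    · exact h
  have hp1 : 2 ≤ p := hp.out.two_le
  have hemc : n * (e * c) = m := by
    apply Nat.eq_of_mul_eq_mul_left hp.out.pos
    rw [← hNn, ← heC, hc]; ring
  have hk : m / n = e * c := by rw [← hemc, Nat.mul_div_cancel_left _ (by omega)]
  have hconj : ∀ R : Sylow p G, Nat.card (centralizer ((R : Subgroup G) : Set G)) = p * c := by
    intro R
    obtain ⟨g, rfl⟩ := MulAction.exists_smul_eq G P R
    have hmap : centralizer (((g • P : Sylow p G) : Subgroup G) : Set G) =
        (centralizer ((P : Subgroup G) : Set G)).map (MulAut.conj g).toMonoidHom := by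
      rw [Sylow.coe_subgroup_smul]
      ext x
      rw [mem_map_equiv, mem_centralizer_iff, mem_centralizer_iff]
      constructor
      · intro hx y hy
        have h1 := hx (g * y * g⁻¹) ⟨y, hy, rfl⟩
        simp only [MulAut.conj_symm_apply]
        calc y * (g⁻¹ * x * g) = g⁻¹ * (g * y * g⁻¹ * x) * g := by group
          _ = g⁻¹ * x * g * y := by rw [h1]; group
      · rintro hx _ ⟨y, hy, rfl⟩
        have h1 := hx y hy
        simp only [MulAut.conj_symm_apply] at h1
        show g * y * g⁻¹ * x = x * (g * y * g⁻¹)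
        calc g * y * g⁻¹ * x = g * (y * (g⁻¹ * x * g)) * g⁻¹ := by group
          _ = x * (g * y * g⁻¹) := by rw [h1]; group
    rw [hmap, card_map_of_injective (MulAut.conj g).injective, ← hc]
  refine ⟨(n, e, c), ?_, rfl, fun R => ⟨hP R, hconj R⟩⟩
  have hfact : 40 ≤ n ∨ n.factorial % (2 * (p * m)) = 0 := by
    by_cases h40 : 40 ≤ n
    · exact .inl h40
    · exact .inr (Nat.mod_eq_zero_of_dvd (hcard ▸ two_mul_card_dvd_factorial_card_sylow hG hdvd))
  simp only [options, List.mem_flatMap, List.mem_filter, List.mem_range, Bool.and_eq_true, Bool.or_eq_true,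
    decide_eq_true_eq, List.mem_filterMap]
  refine ⟨j, ⟨?_, ⟨⟨?_, ?_⟩, ?_⟩⟩, e, ?_, ?_⟩
  · have hm0 : 0 < m := Nat.pos_of_ne_zero fun h => by simp [h] at hm
    have : n ≤ m := Nat.le_of_dvd hm0 hnm
    exact Nat.lt_succ_of_le ((Nat.le_div_iff_mul_le hp.out.pos).mpr (by rw [mul_comm]; omega))
  · rcases Nat.eq_zero_or_pos j with h | h
    · rw [h] at hj; omega
    · exact h
  · rw [← hj]; exact Nat.mod_eq_zero_of_dvd hnm
  · rw [← hj]; exact hfact
  · exact lt_of_le_of_lt (Nat.le_of_dvd (by omega) hedvd) (by omega)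
  · rw [← hj, hk, if_pos]
    · rw [Nat.mul_div_cancel_left _ (by omega)]
    · refine ⟨he2, Nat.mod_eq_zero_of_dvd hedvd, Nat.mul_mod_right _ _, ?_⟩
      by_cases hpe : e + 1 < p
      · exact .inr (hcard ▸ blockFeasible_of_exists hG hd p P (hP P) e hpe rfl)
      · exact .inl (by omega)

end

section
variable {G : Type*} [Group G] [Finite G] {p q n n' c c' : ℕ} [hp : Fact p.Prime] [hq : Fact q.Prime]

omit [Finite G] in
/-- An element of order `q` generates a Sylow subgroup. -/
theorem exists_zpowers_eq_sylow [Finite G] (Q : HasLocal G q n' c') {y : G} (hy : orderOf y = q) :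
    ∃ R : Sylow q G, (R : Subgroup G) = zpowers y := by
  obtain ⟨R, hR⟩ := (IsPGroup.of_card (n := 1) (show Nat.card (zpowers y) = q ^ 1 by
    rw [Nat.card_zpowers, hy, pow_one])).exists_le_sylow
  exact ⟨R, (eq_of_le_of_card_ge hR (by rw [(Q.2 R).1, Nat.card_zpowers, hy])).symm⟩

/-- If a Sylow `q` centralizes a Sylow `p`, the converse count holds too. -/
theorem dvd_of_dvd (P : HasLocal G p n c) (Q : HasLocal G q n' c') (hpq : p ≠ q) (h : q ∣ c) : p ∣ c' := by
  obtain ⟨P₀⟩ := (inferInstance : Nonempty (Sylow p G))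
  obtain ⟨⟨y, hyC⟩, hy⟩ := exists_prime_orderOf_dvd_card'
    (G := centralizer ((P₀ : Subgroup G) : Set G)) q (by rw [(P.2 P₀).2]; exact h.trans (dvd_mul_left _ _))
  rw [orderOf_mk] at hy
  obtain ⟨R, hR⟩ := exists_zpowers_eq_sylow Q hy
  have hle : (P₀ : Subgroup G) ≤ centralizer ((R : Subgroup G) : Set G) := by
    intro a ha
    rw [hR, mem_centralizer_iff]
    intro b hb
    obtain ⟨i, rfl⟩ := mem_zpowers_iff.mp hb
    exact ((show Commute a y from mem_centralizer_iff.mp hyC a ha).zpow_right i).eq.symm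
  have := card_dvd_of_le hle
  rw [(P.2 P₀).1, (Q.2 R).2] at this
  exact (hp.out.dvd_mul.mp this).resolve_left fun h' => hpq ((Nat.prime_dvd_prime_iff_eq hp.out hq.out).mp h')

/-- If `q` divides `c` exactly and no divisor `> 1` of `c / q` is `1` modulo `q`, then the normalizer of
`P` normalizes a subgroup of order `q` of the centralizer. -/
theorem exists_normalized (P : HasLocal G p n c) (hpq : p ≠ q) (hqc : q ∣ c) (hqq : ¬ q ∣ c / q)
    (hdiv : ∀ i ∈ (c / q).divisors, i % q = 1 → i = 1) (P₀ : Sylow p G) :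
    ∃ y : G, orderOf y = q ∧ y ∈ centralizer ((P₀ : Subgroup G) : Set G) ∧
      normalizer ((P₀ : Subgroup G) : Set G) ≤ normalizer ((zpowers y : Subgroup G) : Set G) := by
  set C := centralizer ((P₀ : Subgroup G) : Set G) with hC
  obtain ⟨a, ha⟩ := hqc
  have hca : c / q = a := by rw [ha, Nat.mul_div_cancel_left _ hq.out.pos]
  rw [hca] at hqq hdiv
  have hcard : Nat.card C = q ^ 1 * (p * a) := by rw [(P.2 P₀).2, ha]; ring
  have hqm : ¬ q ∣ p * a := fun h => (hq.out.dvd_mul.mp h).elim
    (fun h' => hpq ((Nat.prime_dvd_prime_iff_eq hq.out hp.out).mp h').symm) hqq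
  obtain ⟨S⟩ := (inferInstance : Nonempty (Sylow q C))
  have hScard : Nat.card (S : Subgroup C) = q := by simpa using card_sylow_subgroup_eq hcard hqm S
  obtain ⟨⟨y', hyS⟩, hy'⟩ := exists_prime_orderOf_dvd_card' (G := (S : Subgroup C)) q (by rw [hScard])
  rw [orderOf_mk] at hy'
  have hn1 : Nat.card (Sylow q C) = 1 := by
    set N := Nat.card (normalizer ((S : Subgroup C) : Set C))
    have hNn : N * Nat.card (Sylow q C) = p * (q * a) := by rw [card_normalizer_mul S, hcard]; ring
    have hpN : p ∣ N := by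
      have hle : (P₀ : Subgroup G).subgroupOf C ≤ normalizer ((S : Subgroup C) : Set C) := by
        intro x hx
        have hcomm : ∀ w : C, x * w = w * x := fun w => Subtype.ext (mem_centralizer_iff.mp w.2 (x : G) hx)
        rw [mem_normalizer_iff]
        intro w
        rw [hcomm w, mul_inv_cancel_right]
      have hPC : (P₀ : Subgroup G) ≤ C := by
        have hcyc : IsCyclic (P₀ : Subgroup G) := isCyclic_of_prime_card (P.2 P₀).1
        intro x hx
        rw [hC, mem_centralizer_iff]
        intro w hw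
        exact congrArg Subtype.val (hcyc.commGroup.mul_comm ⟨w, hw⟩ ⟨x, hx⟩)
      have := card_dvd_of_le hle
      rwa [Nat.card_congr (subgroupOfEquivOfLe hPC).toEquiv, (P.2 P₀).1] at this
    have hqN : q ∣ N := hScard ▸ card_dvd_of_le le_normalizer
    obtain ⟨t, ht⟩ := ((Nat.coprime_primes hp.out hq.out).mpr hpq).mul_dvd_of_dvd_of_dvd hpN hqN
    rw [ht] at hNn
    have hdv : Nat.card (Sylow q C) ∣ a := by
      refine ⟨t, Nat.eq_of_mul_eq_mul_left (Nat.mul_pos hp.out.pos hq.out.pos) ?_⟩
      calc p * q * a = p * (q * a) := by ring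
        _ = p * q * t * Nat.card (Sylow q C) := hNn.symm
        _ = p * q * (Nat.card (Sylow q C) * t) := by ring
    refine hdiv _ (Nat.mem_divisors.mpr ⟨hdv, ?_⟩) card_sylow_mod
    rintro rfl
    exact hqm (by simp)
  refine ⟨(y' : G), by rw [Subgroup.orderOf_coe, hy'], y'.2, fun g hg => ?_⟩
  haveI hsub : Subsingleton (Sylow q C) := (Nat.card_eq_one_iff_unique.mp hn1).1
  have hgen : ∀ z : C, orderOf z = q → z ∈ zpowers y' := by
    intro z hz
    obtain ⟨S', hS'⟩ := (IsPGroup.of_card (n := 1) (show Nat.card (zpowers z) = q ^ 1 by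
      rw [Nat.card_zpowers, hz, pow_one])).exists_le_sylow
    rw [Subsingleton.elim S' S] at hS'
    have hSy : zpowers y' = (S : Subgroup C) := eq_of_le_of_card_ge (zpowers_le.mpr hyS) (by
      rw [hScard, Nat.card_zpowers, hy'])
    exact hSy ▸ hS' (mem_zpowers z)
  have hgy : ∀ h ∈ normalizer ((P₀ : Subgroup G) : Set G), h * (y' : G) * h⁻¹ ∈ zpowers (y' : G) := by
    intro h hh
    have hmem : h * (y' : G) * h⁻¹ ∈ C := by
      refine mem_centralizer_iff.mpr fun w hw => ?_
      have hw' : h⁻¹ * w * h ∈ (P₀ : Subgroup G) := by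
        have h' := (mem_normalizer_iff.mp (inv_mem hh) w).mp hw
        rwa [inv_inv] at h'
      have he := mem_centralizer_iff.mp y'.2 _ hw'
      calc w * (h * y' * h⁻¹) = h * (h⁻¹ * w * h * y') * h⁻¹ := by group
        _ = h * y' * h⁻¹ * w := by rw [he]; group
    have hord : orderOf (⟨_, hmem⟩ : C) = q := by
      rw [orderOf_mk, show h * (y' : G) * h⁻¹ = (MulAut.conj h).toMonoidHom (y' : G) from rfl,
        orderOf_injective _ (MulAut.conj h).injective, Subgroup.orderOf_coe, hy']
    obtain ⟨i, hi⟩ := mem_zpowers_iff.mp (hgen _ hord)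
    exact mem_zpowers_iff.mpr ⟨i, congrArg Subtype.val hi⟩
  rw [mem_normalizer_iff]
  intro w
  constructor
  · intro hw
    obtain ⟨i, rfl⟩ := mem_zpowers_iff.mp hw
    rw [← conj_zpow]
    exact zpow_mem (hgy g hg) i
  · intro hw
    obtain ⟨i, hi⟩ := mem_zpowers_iff.mp hw
    have h1 := zpow_mem (hgy g⁻¹ (inv_mem hg)) i
    rw [conj_zpow, hi, inv_inv] at h1
    simpa [mul_assoc] using h1

/-- The relation between the Sylow numbers when the normalizer of `P` normalizes `Q`. -/
theorem card_sylow_dvd_of_normalized (P : HasLocal G p n c) (Q : HasLocal G q n' c') (hpq : p ≠ q) (hqc : q ∣ c)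
    (hqq : ¬ q ∣ c / q) (hdiv : ∀ i ∈ (c / q).divisors, i % q = 1 → i = 1) : n' ∣ n ∧ n' % p = 1 := by
  obtain ⟨P₀⟩ := (inferInstance : Nonempty (Sylow p G))
  obtain ⟨y, hy, -, hle⟩ := exists_normalized P hpq hqc hqq hdiv P₀
  obtain ⟨R, hR⟩ := exists_zpowers_eq_sylow Q hy
  rw [← hR] at hle
  set H := normalizer ((R : Subgroup G) : Set G)
  have hiH : H.index = n' := R.card_eq_index_normalizer.symm.trans Q.1
  have hiN : (normalizer ((P₀ : Subgroup G) : Set G)).index = n := P₀.card_eq_index_normalizer.symm.trans P.1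
  refine ⟨hiH ▸ hiN ▸ index_dvd_of_le hle, ?_⟩
  -- the Sylow number of `p` in `H`
  have hPH : (P₀ : Subgroup G) ≤ H := le_normalizer.trans hle
  have h1 : Nat.card (Sylow p H) = (normalizer ((P₀ : Subgroup G) : Set G)).relIndex H := by
    rw [(P₀.subtype hPH).card_eq_index_normalizer]
    show (normalizer ((((P₀ : Subgroup G).subgroupOf H) : Subgroup H) : Set H)).index = _
    rw [← subgroupOf_normalizer_eq hPH]
    rfl
  have h2 := relIndex_mul_index hle
  rw [← h1, hiH, hiN] at h2
  have h3 : Nat.card (Sylow p H) % p = 1 := card_sylow_mod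
  have h4 : n % p = 1 := P.1 ▸ card_sylow_mod
  rw [← h2, Nat.mul_mod, h3, one_mul, Nat.mod_mod] at h4
  exact h4

/-- Elements of order `p * q`. -/
theorem le_card_orderOf_mul (P : HasLocal G p n c) (hpq : p ≠ q) (hqc : q ∣ c) :
    n * ((p - 1) * (q - 1)) ≤ Nat.card {x : G // orderOf x = p * q} := by
  classical
  haveI : NeZero (p * q) := ⟨Nat.mul_ne_zero hp.out.ne_zero hq.out.ne_zero⟩
  have hy : ∀ R : Sylow p G, ∃ y : G, orderOf y = p * q ∧ zpowers (y ^ q) = (R : Subgroup G) := by
    intro R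
    obtain ⟨⟨z, hzC⟩, hz⟩ := exists_prime_orderOf_dvd_card'
      (G := centralizer ((R : Subgroup G) : Set G)) q (by rw [(P.2 R).2]; exact hqc.trans (dvd_mul_left _ _))
    rw [orderOf_mk] at hz
    obtain ⟨⟨x, hxR⟩, hx⟩ := exists_prime_orderOf_dvd_card' (G := (R : Subgroup G)) p (by rw [(P.2 R).1])
    rw [orderOf_mk] at hx
    have hco : Commute x z := mem_centralizer_iff.mp hzC x hxR
    refine ⟨x * z, by rw [hco.orderOf_mul_eq_mul_orderOf_of_coprime
      (by rw [hx, hz]; exact (Nat.coprime_primes hp.out hq.out).mpr hpq), hx, hz], ?_⟩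
    rw [hco.mul_pow, show z ^ q = 1 from hz ▸ pow_orderOf_eq_one z, mul_one]
    refine eq_of_le_of_card_ge (zpowers_le.mpr (pow_mem hxR q)) ?_
    rw [(P.2 R).1, Nat.card_zpowers, Nat.Coprime.orderOf_pow
      (by rw [hx]; exact (Nat.coprime_primes hp.out hq.out).mpr hpq), hx]
  choose y hyo hyz using hy
  let f : Sylow p G × (ZMod (p * q))ˣ → {x : G // orderOf x = p * q} := fun a =>
    ⟨y a.1 ^ ((a.2 : ZMod (p * q)).val), by
      rw [Nat.Coprime.orderOf_pow (by rw [hyo]; exact (ZMod.val_coe_unit_coprime a.2).symm), hyo]⟩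
  have hf : Function.Injective f := by
    rintro ⟨R, u⟩ ⟨R', u'⟩ hab
    have hab' : y R ^ ((u : ZMod (p * q)).val) = y R' ^ ((u' : ZMod (p * q)).val) := congrArg Subtype.val hab
    have hR : ∀ (T : Sylow p G) (v : (ZMod (p * q))ˣ),
        zpowers ((y T ^ ((v : ZMod (p * q)).val)) ^ q) = (T : Subgroup G) := by
      intro T v
      rw [← pow_mul, mul_comm _ q, pow_mul]
      refine eq_of_le_of_card_ge (zpowers_le.mpr (pow_mem (hyz T ▸ mem_zpowers _) _)) ?_
      have h1 : orderOf (y T ^ q) = p := by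
        have := congrArg (fun H : Subgroup G => Nat.card H) (hyz T)
        simpa [Nat.card_zpowers, (P.2 T).1] using this
      rw [(P.2 T).1, Nat.card_zpowers, Nat.Coprime.orderOf_pow, h1]
      rw [h1]; exact (Nat.Coprime.coprime_dvd_right (dvd_mul_right p q) (ZMod.val_coe_unit_coprime v)).symm
    obtain rfl : R = R' := Sylow.ext (by rw [← hR R u, ← hR R' u', hab'])
    rw [pow_inj_mod, hyo, Nat.mod_eq_of_lt (ZMod.val_lt _), Nat.mod_eq_of_lt (ZMod.val_lt _)] at hab'
    exact Prod.ext rfl (Units.ext (ZMod.val_injective _ hab'))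
  have h := Nat.card_le_card_of_injective f hf
  rwa [Nat.card_prod, P.1, Nat.card_eq_fintype_card (α := (ZMod (p * q))ˣ), ZMod.card_units_eq_totient,
    Nat.totient_mul ((Nat.coprime_primes hp.out hq.out).mpr hpq), Nat.totient_prime hp.out,
    Nat.totient_prime hq.out] at h

theorem card_orderOf_eq (P : HasLocal G p n c) {m : ℕ} (hcard : Nat.card G = p * m) (hm : ¬ p ∣ m) :
    Nat.card {x : G // orderOf x = p} = n * (p - 1) := by
  rw [card_orderOf_eq_prime hcard hm, P.1]

end

/-- In a simple group with Sylow 2-subgroups of order 8 every involution centralizes a Sylow 2-subgroup. -/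
theorem eight_dvd_centralizer {G : Type*} [Group G] [Finite G] [IsSimpleGroup G] (hc : ¬ IsMulCommutative G)
    (P : Sylow 2 G) (h8 : Nat.card (P : Subgroup G) = 8) {t : G} (ht : orderOf t = 2) :
    8 ∣ Nat.card (centralizer ({t} : Set G)) := by
  haveI : Fact (Nat.Prime 2) := ⟨Nat.prime_two⟩
  obtain ⟨S, hS⟩ := (IsPGroup.of_card (n := 1) (show Nat.card (zpowers t) = 2 ^ 1 by
    rw [Nat.card_zpowers, ht, pow_one])).exists_le_sylow
  have hS8 : Nat.card (S : Subgroup G) = 8 := (card_sylow_subgroup_congr S P).trans h8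
  have htS : t ∈ (S : Subgroup G) := hS (mem_zpowers t)
  have key : ∀ u : G, (∀ s ∈ (S : Subgroup G), s * u = u * s) → ∀ g : G, g * t * g⁻¹ = u →
      8 ∣ Nat.card (centralizer ({t} : Set G)) := by
    intro u hu g hg
    have hinj : Function.Injective (MulAut.conj g⁻¹).toMonoidHom := (MulAut.conj g⁻¹).injective
    have hmap : Nat.card ((S : Subgroup G).map (MulAut.conj g⁻¹).toMonoidHom) = 8 :=
      (card_map_of_injective hinj).trans hS8
    rw [← hmap]
    refine card_dvd_of_le ?_
    rintro _ ⟨s, hs, rfl⟩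
    rw [mem_centralizer_singleton_iff]
    show g⁻¹ * s * g⁻¹⁻¹ * t = t * (g⁻¹ * s * g⁻¹⁻¹)
    rw [inv_inv]
    calc g⁻¹ * s * g * t = g⁻¹ * (s * (g * t * g⁻¹)) * g := by group
      _ = g⁻¹ * ((g * t * g⁻¹) * s) * g := by rw [hg, hu s hs]
      _ = t * (g⁻¹ * s * g) := by group
  by_cases hcomm : ∀ s ∈ (S : Subgroup G), s * t = t * s
  · exact key t hcomm 1 (by group)
  obtain ⟨r, hrS, hr⟩ : ∃ r ∈ (S : Subgroup G), orderOf r = 4 := by
    by_contra hno
    push Not at hno
    refine hcomm fun s hs => ?_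
    have hsq : ∀ w ∈ (S : Subgroup G), w * w = 1 := by
      intro w hw
      have hd := Subgroup.orderOf_dvd_natCard (s := (S : Subgroup G)) hw
      rw [hS8] at hd
      have key' : ∀ i ∈ (8 : ℕ).divisors, i = 1 ∨ i = 2 ∨ i = 4 ∨ i = 8 := by decide
      rcases key' _ (Nat.mem_divisors.mpr ⟨hd, by norm_num⟩) with e | e | e | e
      · rw [orderOf_eq_one_iff.mp e, mul_one]
      · rw [← pow_two, ← e]; exact pow_orderOf_eq_one w
      · exact absurd e (hno w hw)
      · exact absurd (by rw [orderOf_pow, e]; norm_num) (hno (w ^ 2) (pow_mem hw 2))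
    have h1 := hsq (s * t) (mul_mem hs htS)
    have h2 := hsq s hs
    have h3 := hsq t htS
    calc s * t = (s * t)⁻¹ := (inv_eq_of_mul_eq_one_right h1).symm
      _ = t * s := by rw [mul_inv_rev, inv_eq_of_mul_eq_one_right h2, inv_eq_of_mul_eq_one_right h3]
  have hMS : zpowers r ≤ (S : Subgroup G) := zpowers_le.mpr hrS
  have hi : (zpowers r).relIndex (S : Subgroup G) = 2 := by
    have := relIndex_mul_relIndex (⊥ : Subgroup G) (zpowers r) (S : Subgroup G) bot_le hMS
    rw [relIndex_bot_left, relIndex_bot_left, Nat.card_zpowers, hr, hS8] at this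
    omega
  have hinv : ∀ w ∈ zpowers r, orderOf w = 2 → w = r ^ 2 := by
    intro w hw hw2
    obtain ⟨i, rfl⟩ := mem_zpowers_iff.mp hw
    rw [← zpow_mod_orderOf, hr] at hw2 ⊢
    have : i % ((4 : ℕ) : ℤ) = 0 ∨ i % ((4 : ℕ) : ℤ) = 1 ∨ i % ((4 : ℕ) : ℤ) = 2 ∨ i % ((4 : ℕ) : ℤ) = 3 := by
      omega
    rcases this with e | e | e | e <;> rw [e] at hw2 ⊢
    · simp at hw2
    · rw [zpow_one, hr] at hw2; norm_num at hw2
    · exact zpow_natCast r 2
    · rw [show (3 : ℤ) = ((3 : ℕ) : ℤ) from rfl, zpow_natCast, orderOf_pow, hr] at hw2; norm_num at hw2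
  have hsq : ∀ s ∈ (S : Subgroup G), s * r ^ 2 = r ^ 2 * s := by
    intro s hs
    have hnormal := normal_of_index_eq_two (show (((zpowers r).subgroupOf (S : Subgroup G))).index = 2 from hi)
    have hmem : s * r ^ 2 * s⁻¹ ∈ zpowers r :=
      hnormal.conj_mem ⟨r ^ 2, pow_mem hrS 2⟩ (mem_subgroupOf.mpr (pow_mem (mem_zpowers r) 2)) ⟨s, hs⟩
    have h2 : orderOf (s * r ^ 2 * s⁻¹) = 2 := by
      rw [show s * r ^ 2 * s⁻¹ = (MulAut.conj s).toMonoidHom (r ^ 2) from rfl,
        orderOf_injective _ (MulAut.conj s).injective, orderOf_pow, hr]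
      norm_num
    exact mul_inv_eq_iff_eq_mul.mp (hinv _ hmem h2)
  by_cases htM : t ∈ zpowers r
  · exact key t (fun s hs => by rw [hinv t htM ht]; exact hsq s hs) 1 (by group)
  rcases CfsgLib.Transfer.thompsonTransferLemma S (zpowers r) hMS hi t ht htS htM with ⟨M, hM, hMi, -⟩ | ⟨g, hg⟩
  · exfalso
    rcases IsSimpleGroup.eq_bot_or_eq_top_of_normal M hM with rfl | rfl
    · rw [index_bot] at hMi
      have := card_subgroup_dvd_card (S : Subgroup G)
      rw [hS8, hMi] at this
      norm_num at this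
    · rw [index_top] at hMi; norm_num at hMi
  · refine key _ (fun s hs => ?_) g rfl
    rw [hinv _ hg (by rw [show g * t * g⁻¹ = (MulAut.conj g).toMonoidHom t from rfl,
      orderOf_injective _ (MulAut.conj g).injective, ht])]
    exact hsq s hs

end CfsgLib.Sieve.PrimeLocal
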