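import Cfsg.Agent.Blocks.PrimeGram.BlockEquation
import Cfsg.Agent.Chars.DetRegular.Basic
import Cfsg.Agent.Sieve.PrimeLocal
import Mathlib

/-!
# No simple group has a self-normalising Frobenius subgroup of order 20 on a space of dimension 4
-/

set_option autoImplicit false
set_option linter.style.haveILetI false

namespace CfsgLib.Sieve.DegreeFour

open Cfsg CfsgLib.Chars Subgroup

/-- In a noncommutative simple group every representation has determinant 1. -/
theorem det_eq_one {G : Type*} [Group G] [IsSimpleGroup G] (hc : ¬ IsMulCommutative G) {n : ℕ}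
    (ρ : Representation ℂ G (Fin n → ℂ)) (g : G) : LinearMap.det (ρ g) = 1 := by
  rcases IsSimpleGroup.eq_bot_or_eq_top_of_normal ((LinearMap.det (M := Fin n → ℂ) (A := ℂ)).comp ρ).ker inferInstance with h | h
  · exfalso
    refine hc ⟨⟨fun a b => (MonoidHom.ker_eq_bot_iff _).mp h ?_⟩⟩
    rw [map_mul, map_mul, mul_comm]
  · exact MonoidHom.mem_ker.mp (h.symm ▸ mem_top g : g ∈ ((LinearMap.det (M := Fin n → ℂ) (A := ℂ)).comp ρ).ker)

/-- A simple group with `w x w⁻¹ = x²`, `x` of order 5 and `w ^ 4 = 1`, has no nontrivial representation of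
degree 4. -/
theorem trivial_of_degree_four {G : Type*} [Group G] [IsSimpleGroup G] (hc : ¬ IsMulCommutative G)
    (ρ : Representation ℂ G (Fin 4 → ℂ)) {x w : G} (hx : orderOf x = 5) (hw : w ^ 4 = 1)
    (hwx : w * x * w⁻¹ = x ^ 2) : ∀ g : G, ρ g = 1 := by
  have hker : ρ x = 1 := by
    by_contra hne
    obtain ⟨ζ, hζ⟩ : ∃ ζ : ℂ, IsPrimitiveRoot ζ 5 := ⟨_, Complex.isPrimitiveRoot_exp 5 (by norm_num)⟩
    have hA5 : ρ x ^ 5 = 1 := by rw [← map_pow, ← hx, pow_orderOf_eq_one, map_one]
    -- an eigenvector for a nontrivial fifth root of unity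
    obtain ⟨μ, hμ5, hμ1, v, hv, hxv⟩ : ∃ μ : ℂ, μ ^ 5 = 1 ∧ μ ≠ 1 ∧ ∃ v, v ≠ 0 ∧ ρ x v = μ • v := by
      by_contra hcon
      push Not at hcon
      apply hne
      refine LinearMap.ext fun u => ?_
      let E : ℕ → (Fin 4 → ℂ) := fun k => ∑ i ∈ Finset.range 5, (ζ ^ k) ^ i • (ρ x ^ i) u
      have heig : ∀ k, ρ x (E k) = ((ζ ^ k)⁻¹) • E k := by
        intro k
        have hk5 : (ζ ^ k) ^ 5 = 1 := by rw [← pow_mul, mul_comm, pow_mul, hζ.pow_eq_one, one_pow]
        have hk0 : ζ ^ k ≠ 0 := pow_ne_zero _ (hζ.ne_zero (by norm_num))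
        have h1 : (ζ ^ k) • ρ x (E k) = E k := by
          have hsucc : ∀ i, ρ x ((ρ x ^ i) u) = (ρ x ^ (i + 1)) u := fun i => by
            rw [pow_succ' (ρ x) i]; rfl
          simp only [E, map_sum, map_smul, Finset.smul_sum, smul_smul, hsucc, ← pow_succ']
          have h := Finset.sum_range_succ' (fun i => (ζ ^ k) ^ i • (ρ x ^ i) u) 5
          rw [Finset.sum_range_succ, hA5, hk5, pow_zero, pow_zero, add_left_inj] at h
          exact h.symm
        calc ρ x (E k) = ((ζ ^ k)⁻¹) • ((ζ ^ k) • ρ x (E k)) := by rw [smul_smul, inv_mul_cancel₀ hk0, one_smul]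
          _ = _ := by rw [h1]
      have hE : ∀ k, k % 5 ≠ 0 → E k = 0 := by
        intro k hk
        by_contra hEk
        refine hcon ((ζ ^ k)⁻¹) ?_ ?_ (E k) hEk (heig k)
        · rw [inv_pow, ← pow_mul, mul_comm, pow_mul, hζ.pow_eq_one, one_pow, inv_one]
        · rw [Ne, inv_eq_one, hζ.pow_eq_one_iff_dvd]
          exact fun hd => hk (Nat.mod_eq_zero_of_dvd hd)
      have hsum : E 0 + E 1 + E 2 + E 3 + E 4 = (5 : ℂ) • u := by
        have hg : ∀ i, i ≠ 0 → i < 5 → (ζ ^ 0) ^ i + (ζ ^ 1) ^ i + (ζ ^ 2) ^ i + (ζ ^ 3) ^ i + (ζ ^ 4) ^ i = 0 := by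
          intro i hi0 hi5
          have h := (hζ.pow_of_coprime i (by interval_cases i <;> first | omega | norm_num)).geom_sum_eq_zero (by norm_num)
          simp only [Finset.sum_range_succ, Finset.sum_range_zero, zero_add] at h
          linear_combination (norm := ring) h
        have e1 := hg 1 one_ne_zero (by norm_num)
        have e2 := hg 2 two_ne_zero (by norm_num)
        have e3 := hg 3 (by norm_num) (by norm_num)
        have e4 := hg 4 (by norm_num) (by norm_num)
        have hlin : ∀ f : ℕ → ℂ, (∑ i ∈ Finset.range 5, (ζ ^ 0) ^ i * f i) + (∑ i ∈ Finset.range 5, (ζ ^ 1) ^ i * f i) +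
            (∑ i ∈ Finset.range 5, (ζ ^ 2) ^ i * f i) + (∑ i ∈ Finset.range 5, (ζ ^ 3) ^ i * f i) +
            (∑ i ∈ Finset.range 5, (ζ ^ 4) ^ i * f i) = 5 * f 0 := by
          intro f
          simp only [Finset.sum_range_succ, Finset.sum_range_zero, zero_add]
          linear_combination (f 1) * e1 + (f 2) * e2 + (f 3) * e3 + (f 4) * e4
        funext j
        simp only [E, Pi.add_apply, Pi.smul_apply, Finset.sum_apply, smul_eq_mul]
        exact (hlin fun i => (ρ x ^ i) u j).trans (by rw [pow_zero, Module.End.one_apply])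
      rw [hE 1 (by norm_num), hE 2 (by norm_num), hE 3 (by norm_num), hE 4 (by norm_num), add_zero, add_zero,
        add_zero, add_zero] at hsum
      have h0 := heig 0
      rw [hsum, pow_zero, inv_one, one_smul, map_smul] at h0
      rw [Module.End.one_apply]
      exact smul_right_injective _ (by norm_num : (5 : ℂ) ≠ 0) h0
    -- `w` permutes four eigenvectors cyclically
    have hconj : ρ x * ρ w = ρ w * ρ x ^ 3 := by
      rw [← map_pow, ← map_mul, ← map_mul]
      congr 1
      have h6 : x ^ 6 = x := by rw [← pow_mod_orderOf, hx]; norm_num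
      have h1 : w * x ^ 3 * w⁻¹ = x := by rw [← conj_pow, hwx, ← pow_mul]; exact h6
      exact (mul_inv_eq_iff_eq_mul.mp h1).symm
    have hstep : ∀ (y : Fin 4 → ℂ) (ν : ℂ), ρ x y = ν • y → ρ x (ρ w y) = ν ^ 3 • ρ w y := by
      intro y ν hy
      have := LinearMap.congr_fun hconj y
      simp only [Module.End.mul_apply] at this
      rw [this, show (ρ x ^ 3) y = ρ x (ρ x (ρ x y)) from rfl]
      simp only [hy, map_smul, smul_smul]
      ring_nf
    let b : Fin 4 → (Fin 4 → ℂ) := fun i => (ρ w ^ (i : ℕ)) v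
    have hb : ∀ i : Fin 4, ρ x (b i) = μ ^ (3 ^ (i : ℕ)) • b i := by
      have : ∀ n : ℕ, ρ x ((ρ w ^ n) v) = μ ^ (3 ^ n) • (ρ w ^ n) v := by
        intro n
        induction n with
        | zero => simpa using hxv
        | succ n ih =>
          rw [pow_succ' (ρ w), pow_succ 3 n, pow_mul]
          exact hstep _ _ ih
      exact fun i => this i
    have hμord : IsPrimitiveRoot μ 5 := by
      haveI : Fact (Nat.Prime 5) := ⟨by norm_num⟩
      exact orderOf_eq_prime hμ5 hμ1 ▸ IsPrimitiveRoot.orderOf μ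
    have hwinv : ∀ n : ℕ, ∀ y, (ρ w ^ n) y = 0 → y = 0 := by
      intro n y hy
      have : (ρ w⁻¹ ^ n * ρ w ^ n) = 1 := by
        rw [← map_pow, ← map_pow, ← map_mul, inv_pow, inv_mul_cancel, map_one]
      have h := LinearMap.congr_fun this y
      rw [Module.End.mul_apply, hy, map_zero, Module.End.one_apply] at h
      exact h.symm
    have hli : LinearIndependent ℂ b := by
      refine Module.End.eigenvectors_linearIndependent' (ρ x) (fun i : Fin 4 => μ ^ (3 ^ (i : ℕ))) ?_ b
        fun i => ⟨Module.End.mem_eigenspace_iff.mpr (hb i), fun h => hv (hwinv _ _ h)⟩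
      intro i j hij
      have key : ∀ i j : Fin 4, (3 ^ (i : ℕ)) % 5 = (3 ^ (j : ℕ)) % 5 → i = j := by decide
      refine key i j (hμord.pow_inj (Nat.mod_lt _ (by norm_num)) (Nat.mod_lt _ (by norm_num)) ?_)
      rw [hμord.eq_orderOf, pow_mod_orderOf, pow_mod_orderOf]
      exact hij
    let B := basisOfLinearIndependentOfCardEqFinrank hli (by simp)
    have hB : ∀ i, B i = b i := fun i => by simp [B]
    have hnext : ∀ i : Fin 4, ρ w (B i) = B (i + 1) := by
      intro i
      rw [hB, hB]
      fin_cases i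
      · rfl
      · rfl
      · rfl
      · show ρ w ((ρ w ^ 3) v) = (ρ w ^ 0) v
        rw [pow_zero, ← Module.End.mul_apply, ← pow_succ', ← map_pow, hw, map_one]
    have hdet : LinearMap.det (ρ w) = -1 := by
      rw [← LinearMap.det_toMatrix B]
      have hM : LinearMap.toMatrix B B (ρ w) = !![0, 0, 0, 1; 1, 0, 0, 0; 0, 1, 0, 0; 0, 0, 1, 0] := by
        ext i j
        rw [LinearMap.toMatrix_apply, hnext j, Module.Basis.repr_self, Finsupp.single_apply]
        fin_cases i <;> fin_cases j <;> simp
      rw [hM]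
      simp [Matrix.det_succ_row_zero, Fin.sum_univ_succ, Fin.succAbove]
      norm_num
    rw [det_eq_one hc ρ w] at hdet
    norm_num at hdet
  intro g
  rcases IsSimpleGroup.eq_bot_or_eq_top_of_normal (MonoidHom.ker ρ) inferInstance with h | h
  · have : x = 1 := (MonoidHom.ker_eq_bot_iff _).mp h (by rw [hker, map_one])
    rw [this, orderOf_one] at hx
    norm_num at hx
  · exact MonoidHom.mem_ker.mp (h.symm ▸ mem_top g : g ∈ MonoidHom.ker ρ)

/-- An irreducible character of degree 4 is excluded by such elements. -/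
theorem charDegree_ne_four {G : Type*} [Group G] [Finite G] [IsSimpleGroup G] (hc : ¬ IsMulCommutative G)
    {x w : G} (hx : orderOf x = 5) (hw : w ^ 4 = 1) (hwx : w * x * w⁻¹ = x ^ 2) (χ : IrrCharacter G) :
    charDegree (χ : G → ℂ) ≠ 4 := by
  intro h4
  haveI := Fintype.ofFinite G
  obtain ⟨n, ρ, hρ, hχ⟩ := χ.2
  have hn : n = 4 := by
    have h1 : (χ : G → ℂ) 1 = (n : ℂ) := by rw [← hχ, Representation.char_one]; simp
    rw [← coe_charDegree, h4] at h1
    exact_mod_cast h1.symm
  subst hn
  have htriv := trivial_of_degree_four hc ρ hx hw hwx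
  have hcl : (χ : G → ℂ) = fun _ => (4 : ℂ) := by
    funext g
    rw [← hχ]
    show LinearMap.trace ℂ _ (ρ g) = 4
    rw [htriv g, LinearMap.trace_one]
    simp
  -- a constant irreducible character has norm one
  have hone := classInner_self χ
  rw [hcl] at hone
  simp only [classInner, Finset.sum_const, Finset.card_univ, nsmul_eq_mul, map_ofNat] at hone
  rw [← Nat.card_eq_fintype_card, ← mul_assoc, inv_mul_cancel₀ (Nat.cast_ne_zero.mpr Nat.card_pos.ne')] at hone
  norm_num at hone

/-- The principal 5-block of a group of order 720 has a character of degree 4. -/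
theorem false_of_seven_twenty {G : Type*} [Group G] [Finite G] [IsSimpleGroup G] (hc : ¬ IsMulCommutative G)
    [Fact (Nat.Prime 5)] (h : Nat.card G = 720) (P : Sylow 5 G) (hP : Nat.card (P : Subgroup G) = 5)
    (he : (centralizer ((P : Subgroup G) : Set G)).relIndex (normalizer ((P : Subgroup G) : Set G)) = 4)
    (hC : Nat.card (centralizer ((P : Subgroup G) : Set G)) = 5) : False := by
  classical
  haveI := Fintype.ofFinite G
  obtain ⟨M, hM⟩ := PrimeGram.exists_isPModular 5
  haveI := hM.2.1
  obtain ⟨u₀, hu, hz, hidx⟩ := Blocks.OrderP.exists_generator_sylow P hP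
  rw [← hz] at he hC
  obtain ⟨X, Y, hdisj, hB0, hXc, hYc, εX, ε, hε, hX, hY, hrel⟩ :=
    Blocks.OrderP.principal_block_structure hM hu hidx he
  -- elements `x`, `w`
  have hne4 : ∀ χ : IrrCharacter G, charDegree (χ : G → ℂ) ≠ 4 := by
    set K := zpowers u₀ with hK
    set N := normalizer (K : Set G)
    set C := centralizer (K : Set G)
    have hN20 : Nat.card N = 20 := by
      rw [← PrimeGram.relIndex_mul_centralizer K, he, hC]
    have hcycK : IsCyclic K := inferInstance
    let f := K.normalizerMonoidHom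
    have hrange : Nat.card f.range = 4 := by
      rw [← Nat.card_congr (QuotientGroup.quotientKerEquivRange f).toEquiv]
      have hk : f.ker = C.subgroupOf N := normalizerMonoidHom_ker K
      rw [hk]
      exact he
    have hfull : f.range = ⊤ := (card_eq_iff_eq_top _).mp (by
      rw [hrange, IsCyclic.card_mulAut, Nat.card_zpowers, hu]; rfl)
    have hx2 : orderOf (⟨u₀, mem_zpowers u₀⟩ ^ 2 : K) = 5 := by
      rw [Nat.Coprime.orderOf_pow (by rw [orderOf_mk, hu]; norm_num), orderOf_mk, hu]
    have hK5 : ∀ k : K, k ^ 6 = k := fun k => by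
      have h5 : k ^ 5 = 1 := orderOf_dvd_iff_pow_eq_one.mp ((orderOf_dvd_natCard k).trans (by rw [Nat.card_zpowers, hu]))
      rw [pow_succ, h5, one_mul]
    let α : MulAut K :=
      { toFun := fun k => k ^ 2
        invFun := fun k => k ^ 3
        left_inv := fun k => by show (k ^ 2) ^ 3 = k; rw [← pow_mul]; exact hK5 k
        right_inv := fun k => by show (k ^ 3) ^ 2 = k; rw [← pow_mul]; exact hK5 k
        map_mul' := fun a b => Commute.mul_pow (show Commute a b from hcycK.commGroup.mul_comm a b) 2 }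
    obtain ⟨w₁, hw₁⟩ : α ∈ f.range := hfull ▸ mem_top α
    have hw₁x : (w₁ : G) * u₀ * (w₁ : G)⁻¹ = u₀ ^ 2 :=
      congrArg (fun k : K => (k : G)) (MulEquiv.congr_fun hw₁ ⟨u₀, mem_zpowers u₀⟩)
    have hw5 : ((w₁ : G) ^ 5) * u₀ * ((w₁ : G) ^ 5)⁻¹ = u₀ ^ 2 := by
      have hpow : ∀ j : ℕ, (w₁ : G) ^ j * u₀ * ((w₁ : G) ^ j)⁻¹ = u₀ ^ (2 ^ j) := by
        intro j
        induction j with
        | zero => simp
        | succ j ih =>
          rw [pow_succ' (w₁ : G) j]
          calc (w₁ : G) * (w₁ : G) ^ j * u₀ * ((w₁ : G) * (w₁ : G) ^ j)⁻¹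
              = (w₁ : G) * ((w₁ : G) ^ j * u₀ * ((w₁ : G) ^ j)⁻¹) * (w₁ : G)⁻¹ := by group
            _ = u₀ ^ (2 ^ (j + 1)) := by rw [ih, ← conj_pow, hw₁x, ← pow_mul, pow_succ' 2 j]
      rw [hpow, ← pow_mod_orderOf u₀ (2 ^ 5), hu]
      norm_num
    have hw4 : ((w₁ : G) ^ 5) ^ 4 = 1 := by
      rw [← pow_mul, ← orderOf_dvd_iff_pow_eq_one]
      exact (Subgroup.orderOf_dvd_natCard _ w₁.2).trans (hN20.dvd)
    exact fun χ => charDegree_ne_four hc hu hw4 hw5 χ
  -- degrees
  have hone : oneChar G ∈ X := by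
    rcases (hB0 _).mp (Blocks.oneChar_mem_principalBlock_of_finite G) with h' | h'
    · exact h'
    · exfalso
      have := hY _ h'
      rw [show charDegree (oneChar G : G → ℂ) = 1 from charDegree_linChar 1, Int.modEq_iff_dvd] at this
      rcases hε with rfl | rfl
      · norm_num at this
      · -- a degree of the form `1 = -4 (mod 5)` in `Y`; then `1` would not be in `X`
        have hXne : ∀ χ ∈ X, χ ≠ oneChar G := fun χ hχ e => Finset.disjoint_left.mp hdisj hχ (e ▸ h')
        obtain ⟨l, hl⟩ : ∃ l : List (ℤ × ℕ), l = X.toList.map fun χ => (εX χ, charDegree (χ : G → ℂ)) := ⟨_, rfl⟩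
        have hlen : l.length = 4 := by rw [hl, List.length_map, Finset.length_toList, hXc]
        have hsum : (l.map fun q => q.1 * (q.2 : ℤ)).sum = -1 := by
          have h1 := hrel _ h' 1 Blocks.OrderP.not_dvd_orderOf_one
          simp only [← coe_charDegree] at h1
          rw [show charDegree (oneChar G : G → ℂ) = 1 from charDegree_linChar 1] at h1
          have h2 : (-1 : ℤ) * ((1 : ℕ) : ℤ) = ∑ χ ∈ X, εX χ * (charDegree (χ : G → ℂ) : ℤ) := by exact_mod_cast h1
          rw [hl, List.map_map, Function.comp_def, Finset.sum_map_toList, ← h2]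
          norm_num
        have hsq : (l.map fun q => q.2 ^ 2).sum ≤ 719 := by
          rw [hl, List.map_map, Function.comp_def, Finset.sum_map_toList]
          have hsub := (Finset.sum_le_sum_of_subset (f := fun χ : IrrCharacter G => charDegree (χ : G → ℂ) ^ 2)
            (Finset.subset_univ (insert (oneChar G) X))).trans_eq (sum_charDegree_sq (G := G))
          rw [Finset.sum_insert (fun hm => hXne _ hm rfl), h,
            show charDegree (oneChar G : G → ℂ) = 1 from charDegree_linChar 1] at hsub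
          simp only [one_pow] at hsub ⊢
          omega
        have hmem : ∀ q ∈ l, q ∈ (PrimeLocal.signedDegrees 720 5).filter fun q => decide (q.2 ≠ 4) := by
          intro q hq
          rw [hl, List.mem_map] at hq
          obtain ⟨χ, hχ, rfl⟩ := hq
          rw [Finset.mem_toList] at hχ
          obtain ⟨hs, hcong, -⟩ := hX χ hχ
          have h2 : 2 ≤ charDegree (χ : G → ℂ) := by
            by_contra hlt
            exact hXne χ hχ (PrimeGram.linear_eq_one hc χ (by have := charDegree_pos χ; omega))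
          have hd : charDegree (χ : G → ℂ) ∣ 720 := h ▸ charDegree_dvd_card χ
          have h300 : charDegree (χ : G → ℂ) < 300 := by
            by_contra hge
            have hle := Finset.single_le_sum (f := fun ψ : IrrCharacter G => charDegree (ψ : G → ℂ) ^ 2)
              (fun _ _ => Nat.zero_le _) (Finset.mem_univ χ)
            rw [sum_charDegree_sq, h] at hle
            simp only [sq] at hle
            have := Nat.mul_le_mul (not_lt.mp hge) (not_lt.mp hge)
            omega
          simp only [PrimeLocal.signedDegrees, List.mem_filter, List.mem_flatMap, List.mem_filterMap, List.mem_range,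
            Bool.and_eq_true, decide_eq_true_eq]
          refine ⟨⟨_, ⟨h300, h2, Nat.mod_eq_zero_of_dvd hd⟩, εX χ, by simpa using hs, ?_⟩, hne4 χ⟩
          rw [if_pos (Int.emod_eq_emod_iff_emod_sub_eq_zero.mp hcong)]
        have key : ((PrimeLocal.reach ((PrimeLocal.signedDegrees 720 5).filter fun q => decide (q.2 ≠ 4)) 4 719).contains
            (-1 : ℤ)) = false := by decide +kernel
        have := PrimeLocal.sum_mem_reach _ l 719 hmem hsq
        rw [hlen, hsum, ← List.contains_iff_mem, key] at this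
        exact Bool.false_ne_true this
  have hε1 : εX (oneChar G) = 1 := by
    have hu1 : u₀ ≠ 1 := fun e => by rw [e, orderOf_one] at hu; norm_num at hu
    have := (hX _ hone).2.2 u₀ (mem_zpowers u₀) hu1 1 (Commute.one_left _) Blocks.OrderP.not_dvd_orderOf_one
    rw [oneChar_apply] at this
    exact_mod_cast this.symm
  obtain ⟨θ, hθY⟩ := Finset.card_eq_one.mp (show Y.card = 1 by rw [hYc])
  have hθ : θ ∈ Y := hθY ▸ Finset.mem_singleton_self θ
  have hθ1 : θ ≠ oneChar G := fun e => Finset.disjoint_left.mp hdisj hone (e ▸ hθ)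
  have hθX : θ ∉ X := fun hm => Finset.disjoint_left.mp hdisj hm hθ
  let s : IrrCharacter G → ℤ := fun χ => if χ = θ then -ε else εX χ
  set T := insert θ (X.erase (oneChar G)) with hT
  have hTmem : θ ∉ X.erase (oneChar G) := fun hm => hθX (Finset.mem_of_mem_erase hm)
  let l : List (ℤ × ℕ) := T.toList.map fun χ => (s χ, charDegree (χ : G → ℂ))
  have hlen : l.length = 4 := by
    simp only [l, List.length_map, Finset.length_toList, hT, Finset.card_insert_of_notMem hTmem,
      Finset.card_erase_of_mem hone, hXc]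
  have hsum : (l.map fun q => q.1 * (q.2 : ℤ)).sum = -1 := by
    have h1 := hrel θ hθ 1 Blocks.OrderP.not_dvd_orderOf_one
    simp only [← coe_charDegree] at h1
    have h2 : ε * (charDegree (θ : G → ℂ) : ℤ) = ∑ χ ∈ X, εX χ * (charDegree (χ : G → ℂ) : ℤ) := by exact_mod_cast h1
    rw [← Finset.add_sum_erase _ _ hone, hε1, show charDegree (oneChar G : G → ℂ) = 1 from charDegree_linChar 1] at h2
    simp only [l, List.map_map, Function.comp_def, Finset.sum_map_toList, hT, Finset.sum_insert hTmem]
    rw [Finset.sum_congr rfl (g := fun χ : IrrCharacter G => εX χ * (charDegree (χ : G → ℂ) : ℤ))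
      fun χ hχ => by simp only [s, if_neg (fun e => hTmem (e ▸ hχ) : χ ≠ θ)]]
    simp only [s, if_pos rfl]
    push_cast at h2 ⊢
    linarith
  have hTne : ∀ χ ∈ T, χ ≠ oneChar G := fun χ hχ => by
    rcases Finset.mem_insert.mp hχ with rfl | hχ
    · exact hθ1
    · exact Finset.ne_of_mem_erase hχ
  have hsq : (l.map fun q => q.2 ^ 2).sum ≤ 719 := by
    simp only [l, List.map_map, Function.comp_def, Finset.sum_map_toList]
    have hsub := (Finset.sum_le_sum_of_subset (f := fun χ : IrrCharacter G => charDegree (χ : G → ℂ) ^ 2)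
      (Finset.subset_univ (insert (oneChar G) T))).trans_eq (sum_charDegree_sq (G := G))
    rw [Finset.sum_insert (fun hm => hTne _ hm rfl), h,
      show charDegree (oneChar G : G → ℂ) = 1 from charDegree_linChar 1] at hsub
    simp only [one_pow] at hsub ⊢
    omega
  have hmem : ∀ q ∈ l, q ∈ (PrimeLocal.signedDegrees 720 5).filter fun q => decide (q.2 ≠ 4) := by
    intro q hq
    simp only [l, List.mem_map, Finset.mem_toList] at hq
    obtain ⟨χ, hχ, rfl⟩ := hq
    have hs : (s χ = 1 ∨ s χ = -1) ∧ (charDegree (χ : G → ℂ) : ℤ) % 5 = s χ % 5 := by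
      rcases Finset.mem_insert.mp hχ with rfl | hχ'
      · simp only [s, if_pos rfl]
        refine ⟨by omega, ?_⟩
        have h5 := hY _ hθ
        unfold Int.ModEq at h5
        push_cast at h5
        omega
      · simp only [s, if_neg (fun e => hTmem (e ▸ hχ') : χ ≠ θ)]
        exact ⟨(hX χ (Finset.mem_of_mem_erase hχ')).1, (hX χ (Finset.mem_of_mem_erase hχ')).2.1⟩
    have h2 : 2 ≤ charDegree (χ : G → ℂ) := by
      by_contra hlt
      exact hTne χ hχ (PrimeGram.linear_eq_one hc χ (by have := charDegree_pos χ; omega))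
    have hd : charDegree (χ : G → ℂ) ∣ 720 := h ▸ charDegree_dvd_card χ
    have h300 : charDegree (χ : G → ℂ) < 300 := by
      by_contra hge
      have hle := Finset.single_le_sum (f := fun ψ : IrrCharacter G => charDegree (ψ : G → ℂ) ^ 2)
        (fun _ _ => Nat.zero_le _) (Finset.mem_univ χ)
      rw [sum_charDegree_sq, h] at hle
      simp only [sq] at hle
      have := Nat.mul_le_mul (not_lt.mp hge) (not_lt.mp hge)
      omega
    simp only [PrimeLocal.signedDegrees, List.mem_filter, List.mem_flatMap, List.mem_filterMap, List.mem_range,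
      Bool.and_eq_true, decide_eq_true_eq]
    refine ⟨⟨_, ⟨h300, h2, Nat.mod_eq_zero_of_dvd hd⟩, s χ, by simpa using hs.1, ?_⟩, hne4 χ⟩
    rw [if_pos]
    push_cast
    exact Int.emod_eq_emod_iff_emod_sub_eq_zero.mp hs.2
  have key : ((PrimeLocal.reach ((PrimeLocal.signedDegrees 720 5).filter fun q => decide (q.2 ≠ 4)) 4 719).contains
      (-1 : ℤ)) = false := by decide +kernel
  have := PrimeLocal.sum_mem_reach _ l 719 hmem hsq
  rw [hlen, hsum, ← List.contains_iff_mem, key] at this
  exact Bool.false_ne_true this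

end CfsgLib.Sieve.DegreeFour
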